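import Mathlib

/-!
# Excluding the extra solutions of the degree equations

The bounds leave finitely many parameter tuples (`k₁ + k₂ + k₃ ≤ 25`, `h ≤ 9`); a Boolean checker
evaluated by the kernel shows that none of them admits the cofactor `c`.
-/

set_option autoImplicit false

namespace CfsgLib.SuzSC

/-- Rounded-up quotient. -/
def cdiv (a b : ℕ) : ℕ := (a + b - 1) / b

theorem cdiv_le {a b c : ℕ} (hb : 0 < b) (h : a ≤ b * c) : cdiv a b ≤ c := by
  rw [cdiv]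
  apply Nat.lt_succ_iff.1
  rw [Nat.div_lt_iff_lt_mul hb, Nat.succ_mul, mul_comm c b]
  omega

/-- The check of one tuple: `X = x + e`, `N = n₁n₂n₃`, `k = k₁ + k₂ + k₃`, `K = k₂ + k₃ + 2`. -/
def leafOK (N k K k1 n3 X x m h s : ℕ) : Bool :=
  let B := (x + 1 + n3) / n3
  let Q := 1 + x ^ 2 + k1 * X ^ 2 + s * N ^ 2
  let r := N * h - (x + k1 * X + s * N)
  let L := max (cdiv (N * h - 1) (k + 3 + s))
    (max (cdiv (r ^ 2 + K * Q) (K * (N * h))) (cdiv (h * (x - B) ^ 2) (x * m)))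
  let U := min ((N * h - 1) / k) (min (3 * N / h) (h * (x + B) ^ 2 / (x * m)))
  !decide (L ≤ U) ||
    (List.range (2 * B + 1)).all fun j =>
      let v := h * ((x + B - j) + (j - (x + B))) ^ 2
      let c := v / (x * m)
      !(v % (x * m) == 0 && decide (L ≤ c) && decide (c ≤ U) && (N * c * h) % x == 0)

/-- The check of all `h` and `s`. -/
def hsOK (N k K k1 n3 X x m : ℕ) : Bool :=
  (List.range 10).all fun h => [1, 2].all fun s =>
    !(decide (s * k < h ^ 2)) || leafOK N k K k1 n3 X x m h s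

/-- The check of a triple. -/
def tripleOK (k1 k2 k3 : ℕ) : Bool :=
  let n1 := 2 * k1 + 1
  let n2 := 4 * k2 + 1
  let n3 := 4 * k3 + 1
  let N := n1 * n2 * n3
  let k := k1 + k2 + k3
  let K := k2 + k3 + 2
  !(decide (2 ≤ k1 ∧ 2 ≤ k2 ∧ k2 < k3 ∧ k ≤ 25) &&
      (Nat.gcd n1 n2 == 1 && Nat.gcd n1 n3 == 1 && Nat.gcd n2 n3 == 1)) ||
    (List.range (2 * n1)).all fun m =>
      !(decide (1 ≤ m ∧ k1 * m ^ 2 < 3 * n1 ^ 2)) ||
        ((!((m * (n2 * n3) - 2) % n1 == 0) ||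
            hsOK N k K k1 n3 (m * (n2 * n3)) (m * (n2 * n3) - 1) m) &&
          (!((m * (n2 * n3) + 2) % n1 == 0) ||
            hsOK N k K k1 n3 (m * (n2 * n3)) (m * (n2 * n3) + 1) m))

/-- The whole check. -/
def allOK : Bool :=
  (List.range 22).all fun k1 => (List.range (24 - k1)).all fun k2 =>
    (List.range (26 - k1 - k2)).all fun k3 => tripleOK k1 k2 k3

theorem allOK_eq : allOK = true := by decide +kernel

theorem tripleOK_true {k1 k2 k3 : ℕ} (h2 : 2 ≤ k2) (h23 : k2 < k3) (hk : k1 + k2 + k3 ≤ 25) :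
    tripleOK k1 k2 k3 = true := by
  have h := allOK_eq
  simp only [allOK, List.all_eq_true, List.mem_range] at h
  exact h k1 (by omega) k2 (by omega) k3 (by omega)

/-- A surviving tuple contradicts the check. -/
theorem leaf_false {N k K k1 n3 X x m h s c : ℕ} {y : ℤ} (hN : 0 < N) (hk : 0 < k) (hK : 0 < K)
    (hn3 : 0 < n3) (hh : 0 < h) (hx : 0 < x) (hm : 0 < m)
    (hok : leafOK N k K k1 n3 X x m h s = true)
    (hhi : N * h ≤ c * (k + 3 + s) + 1) (hlo : c * k + 1 ≤ N * h) (hch : c * h ≤ 3 * N)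
    (hfix : 1 + x ^ 2 + k1 * X ^ 2 + s * N ^ 2 ≤ N * c * h)
    (hfs : (x : ℤ) + k1 * X + s * N < N * h →
      ((N : ℤ) * h - (x + k1 * X + s * N)) ^ 2 ≤
        K * ((N : ℤ) * c * h - (1 + x ^ 2 + k1 * X ^ 2 + s * N ^ 2)))
    (heq : (h : ℤ) * ((x : ℤ) - y) ^ 2 = c * x * m) (hy : y.natAbs * n3 ≤ x + 1 + n3)
    (hdvd : x ∣ N * c * h) : False := by
  set B := (x + 1 + n3) / n3 with hB
  have hyB : y.natAbs ≤ B := (Nat.le_div_iff_mul_le hn3).2 hy
  set Q := 1 + x ^ 2 + k1 * X ^ 2 + s * N ^ 2 with hQ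
  set r := N * h - (x + k1 * X + s * N) with hr
  have hxm : 0 < x * m := Nat.mul_pos hx hm
  have hNh : 0 < N * h := Nat.mul_pos hN hh
  -- the value of `(x - y)²`
  obtain ⟨d, hd, hdy⟩ : ∃ d : ℕ, ((x + B - d) + (d - (x + B)) = ((x : ℤ) - y).natAbs) ∧
      d ≤ 2 * B := by
    clear_value B
    clear hB hQ hr hfs heq hfix hok hy
    obtain ⟨d, hd⟩ := Int.eq_ofNat_of_zero_le (show (0 : ℤ) ≤ (B : ℤ) + y by omega)
    exact ⟨d, by omega, by omega⟩
  have hv : h * ((x + B - d) + (d - (x + B))) ^ 2 = c * (x * m) := by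
    rw [hd]
    have : ((h * ((x : ℤ) - y).natAbs ^ 2 : ℕ) : ℤ) = ((c * (x * m) : ℕ) : ℤ) := by
      push_cast
      rw [sq_abs, heq]
      ring
    exact_mod_cast this
  -- lower bounds
  have l1 : cdiv (N * h - 1) (k + 3 + s) ≤ c := cdiv_le (by omega) (by
    rw [mul_comm (k + 3 + s) c]; omega)
  have l2 : cdiv (r ^ 2 + K * Q) (K * (N * h)) ≤ c := cdiv_le (Nat.mul_pos hK hNh) (by
    by_cases hlt : x + k1 * X + s * N < N * h
    · have h1 := hfs (by exact_mod_cast hlt)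
      have hrc : ((r : ℕ) : ℤ) = (N : ℤ) * h - (x + k1 * X + s * N) := by
        rw [hr, Nat.cast_sub hlt.le]
        push_cast
        ring
      rw [← hrc] at h1
      have hQc : ((Q : ℕ) : ℤ) = 1 + (x : ℤ) ^ 2 + k1 * (X : ℤ) ^ 2 + s * (N : ℤ) ^ 2 := by
        rw [hQ]; push_cast; ring
      rw [← hQc] at h1
      zify
      linarith
    · have hr0 : r = 0 := by omega
      rw [hr0]
      calc 0 ^ 2 + K * Q = K * Q := by ring
        _ ≤ K * (N * c * h) := Nat.mul_le_mul_left _ hfix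
        _ = K * (N * h) * c := by ring)
  have hsq1 : x - B ≤ (x + B - d) + (d - (x + B)) := by omega
  have hsq2 : (x + B - d) + (d - (x + B)) ≤ x + B := by omega
  have l3 : cdiv (h * (x - B) ^ 2) (x * m) ≤ c := cdiv_le hxm (by
    rw [mul_comm (x * m), ← hv]
    exact Nat.mul_le_mul_left _ (Nat.pow_le_pow_left hsq1 2))
  -- upper bounds
  have u1 : c ≤ (N * h - 1) / k := (Nat.le_div_iff_mul_le hk).2 (by omega)
  have u2 : c ≤ 3 * N / h := (Nat.le_div_iff_mul_le hh).2 hch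
  have u3 : c ≤ h * (x + B) ^ 2 / (x * m) := (Nat.le_div_iff_mul_le hxm).2 (by
    rw [← hv]
    exact Nat.mul_le_mul_left _ (Nat.pow_le_pow_left hsq2 2))
  have hL := max_le l1 (max_le l2 l3)
  have hU := le_min u1 (le_min u2 u3)
  unfold leafOK at hok
  simp only [← hB, ← hQ, ← hr, Bool.or_eq_true, Bool.not_eq_true', decide_eq_false_iff_not,
    List.all_eq_true, List.mem_range] at hok
  rcases hok with hok | hok
  · exact hok (hL.trans hU)
  · have hdiv : c * (x * m) / (x * m) = c := Nat.mul_div_cancel c hxm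
    have h1 := hok d (by omega)
    rw [hv, hdiv, Nat.mul_mod_left, decide_eq_true hL, decide_eq_true hU,
      Nat.mod_eq_zero_of_dvd hdvd] at h1
    simp at h1

/-- The bound on `k`. -/
theorem k_large_false {k h s : ℤ} (hk : 26 ≤ k) (hs : s = 1 ∨ s = 2)
    (hh : h ^ 2 ≤ 3 * (k + 3 + s)) (e : (h - s) ^ 2 * k < (k + 3) * (h ^ 2 - s * k)) : False := by
  rcases hs with rfl | rfl
  · have e4 : k ^ 2 - 5 * k - 36 < 2 * k * h := by linarith
    have e5 : 0 ≤ k ^ 2 - 5 * k - 36 := by nlinarith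
    have e6 := pow_lt_pow_left₀ e4 e5 two_ne_zero
    obtain ⟨j, hj, rfl⟩ : ∃ j, 0 ≤ j ∧ k = j + 26 := ⟨k - 26, by linarith, by ring⟩
    nlinarith [mul_le_mul_of_nonneg_left hh (sq_nonneg (j + 26)), sq_nonneg j, pow_nonneg hj 3,
      pow_nonneg hj 4]
  · have e4 : 2 * k ^ 2 + k - 45 < 4 * k * h := by linarith
    have e5 : 0 ≤ 2 * k ^ 2 + k - 45 := by nlinarith
    have e6 := pow_lt_pow_left₀ e4 e5 two_ne_zero
    obtain ⟨j, hj, rfl⟩ : ∃ j, 0 ≤ j ∧ k = j + 26 := ⟨k - 26, by linarith, by ring⟩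
    nlinarith [mul_le_mul_of_nonneg_left hh (sq_nonneg (j + 26)), sq_nonneg j, pow_nonneg hj 3,
      pow_nonneg hj 4]

set_option maxHeartbeats 1000000 in
/-- The degree equations have no further solution. -/
theorem no_extra {n1 n2 n3 k1 k2 k3 s c h x : ℕ} {e y : ℤ}
    (h1 : n1 = 2*k1+1) (h2 : n2 = 4*k2+1) (h3 : n3 = 4*k3+1) (hk1 : 2 ≤ k1) (hk2 : 2 ≤ k2)
    (h23 : k2 < k3) (c12 : n1.Coprime n2) (c13 : n1.Coprime n3) (c23 : n2.Coprime n3)
    (hs : s = 1 ∨ s = 2) (he : e = 1 ∨ e = -1)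
    (hx : 2 ≤ x) (hd1 : (n1:ℤ) ∣ (x:ℤ) - e) (hd23 : ((n2*n3 : ℕ):ℤ) ∣ (x:ℤ) + e)
    (_hc : 0 < c) (_hcN : c.Coprime (n1*n2*n3)) (hxG : x ∣ n1*n2*n3*c*h)
    (hord : n1*n2*n3*c*h ≤ 3*(n1*n2*n3)^2)
    (heq : (n2*n3*h : ℤ) * ((x:ℤ)-y)^2 = c * x * ((x:ℤ)+e))
    (hy : y.natAbs * n3 ≤ x + 1 + n3)
    (hlo : c*(k1+k2+k3) + 1 ≤ n1*n2*n3*h)
    (hhi : n1*n2*n3*h ≤ c*(k1+k2+k3+3+s) + 1)
    (hfix : 1 + (x:ℤ)^2 + k1*((x:ℤ)+e)^2 + s*((n1*n2*n3:ℕ):ℤ)^2 ≤ ((n1*n2*n3*c*h : ℕ):ℤ))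
    (hfs : ∀ r : ℤ, r = ((n1*n2*n3*h:ℕ):ℤ) - x - k1*((x:ℤ)+e) - s*((n1*n2*n3:ℕ):ℤ) → 0 < r →
      r^2 ≤ (k2+k3+2) * (((n1*n2*n3*c*h : ℕ):ℤ) - 1 - (x:ℤ)^2 - k1*((x:ℤ)+e)^2
        - s*((n1*n2*n3:ℕ):ℤ)^2))
    (hall : ∀ r : ℤ, r = ((n1*n2*n3*h:ℕ):ℤ) - s*((n1*n2*n3:ℕ):ℤ) → 0 < r →
      r^2 ≤ (k1+k2+k3+3) * (((n1*n2*n3*c*h : ℕ):ℤ) - s*((n1*n2*n3:ℕ):ℤ)^2)) : False := by
  set N := n1 * n2 * n3 with hN
  set k := k1 + k2 + k3 with hk
  set p := n2 * n3 with hp
  have hN0 : 0 < N := by rw [hN, h1, h2, h3]; positivity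
  have hNk : 3 * (k + 5) + 1 < N := by
    have e2 : 9 ≤ n2 := by omega
    have e3 : 13 ≤ n3 := by omega
    have e1 : 5 ≤ n1 := by omega
    have : n1 * n2 * n3 ≥ 5 * 9 * n3 := by gcongr
    have : n1 * n2 * n3 ≥ n1 * 9 * 13 := by gcongr
    have : n1 * n2 * n3 ≥ 5 * n2 * 13 := by gcongr
    omega
  -- `x + e = m n₂ n₃`
  obtain ⟨m', hm'⟩ := hd23
  have hm'0 : 0 < m' := by
    have : (0 : ℤ) < (x : ℤ) + e := by omega
    rw [hm'] at this
    exact pos_of_mul_pos_right this (by positivity)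
  obtain ⟨m, rfl⟩ : ∃ m : ℕ, m' = m := ⟨m'.natAbs, by omega⟩
  have hm : 0 < m := by exact_mod_cast hm'0
  set X := m * p with hX
  have hXc : (x : ℤ) + e = (X : ℤ) := by rw [hm', hX]; push_cast; ring
  rw [hXc] at hfix hfs heq
  have hfix' : 1 + x ^ 2 + k1 * X ^ 2 + s * N ^ 2 ≤ N * c * h := by exact_mod_cast hfix
  -- cofactor bounds
  have hch : c * h ≤ 3 * N := Nat.le_of_mul_le_mul_left (by
    calc N * (c * h) = N * c * h := by ring
      _ ≤ 3 * N ^ 2 := hord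
      _ = N * (3 * N) := by ring) hN0
  have hsN : s * N < c * h := Nat.lt_of_mul_lt_mul_left (a := N) (by
    calc N * (s * N) = s * N ^ 2 := by ring
      _ < 1 + x ^ 2 + k1 * X ^ 2 + s * N ^ 2 := by omega
      _ ≤ N * c * h := hfix'
      _ = N * (c * h) := by ring)
  have hm2 : k1 * m ^ 2 < 3 * n1 ^ 2 := by
    have e1 : k1 * m ^ 2 * p ^ 2 < 3 * n1 ^ 2 * p ^ 2 := by
      calc k1 * m ^ 2 * p ^ 2 = k1 * X ^ 2 := by rw [hX]; ring
        _ < 1 + x ^ 2 + k1 * X ^ 2 + s * N ^ 2 := by omega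
        _ ≤ N * c * h := hfix'
        _ ≤ 3 * N ^ 2 := hord
        _ = 3 * n1 ^ 2 * p ^ 2 := by rw [hN, hp]; ring
    exact Nat.lt_of_mul_lt_mul_right e1
  have hh0 : 0 < h := by
    rcases Nat.eq_zero_or_pos h with rfl | hh0
    · simp at hsN
    · exact hh0
  have hskh : s * k < h ^ 2 := Nat.lt_of_mul_lt_mul_left (a := N) (by
    calc N * (s * k) = s * N * k := by ring
      _ < c * h * k := by
        apply Nat.mul_lt_mul_of_pos_right hsN
        omega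
      _ = h * (c * k) := by ring
      _ ≤ h * (N * h) := Nat.mul_le_mul_left _ (by omega)
      _ = N * h ^ 2 := by ring)
  have hsh : s < h := by
    by_contra hcon
    have : h * h ≤ 2 * s := by
      rcases hs with rfl | rfl <;> nlinarith
    rw [pow_two] at hskh
    rcases hs with rfl | rfl <;> omega
  have hh2 : h ^ 2 ≤ 3 * (k + 3 + s) := by
    have e1 : h * (N * h) ≤ 3 * N * (k + 3 + s) + h := by
      calc h * (N * h) ≤ h * (c * (k + 3 + s) + 1) := Nat.mul_le_mul_left _ hhi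
        _ = c * h * (k + 3 + s) + h := by ring
        _ ≤ 3 * N * (k + 3 + s) + h := by gcongr
    by_contra hcon
    have e2 : 3 * (k + 3 + s) + 1 ≤ h ^ 2 := by omega
    obtain ⟨M, hM⟩ : ∃ M, N = M + 1 := ⟨N - 1, by omega⟩
    have e3 : h ≤ h ^ 2 := Nat.le_self_pow two_ne_zero h
    have e4 : M * (3 * (k + 3 + s) + 1) ≤ M * h ^ 2 := Nat.mul_le_mul_left _ e2
    have e5 : M * h ^ 2 + h ^ 2 ≤ 3 * (k + 3 + s) * M + 3 * (k + 3 + s) + h ^ 2 :=
      calc M * h ^ 2 + h ^ 2 = h * (N * h) := by rw [hM]; ring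
        _ ≤ 3 * N * (k + 3 + s) + h := e1
        _ ≤ 3 * N * (k + 3 + s) + h ^ 2 := by omega
        _ = _ := by rw [hM]; ring
    have e6 : M * (3 * (k + 3 + s) + 1) = 3 * (k + 3 + s) * M + M := by ring
    omega
  have hk25 : k ≤ 25 := by
    have e1 := hall ((N * h : ℕ) - (s : ℤ) * N) rfl (by
      have : (0 : ℤ) < ((h : ℤ) - s) * N := by
        apply mul_pos <;> omega
      push_cast
      linarith)
    push_cast at e1
    have e2 : ((h : ℤ) - s) ^ 2 * N ≤ ((k : ℤ) + 3) * ((c : ℤ) * h - s * N) := by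
      have hk' : (k : ℤ) = k1 + k2 + k3 := by rw [hk]; push_cast; ring
      refine le_of_mul_le_mul_right ?_ (show (0 : ℤ) < N by exact_mod_cast hN0)
      calc ((h : ℤ) - s) ^ 2 * N * N = ((N : ℤ) * h - s * N) ^ 2 := by ring
        _ ≤ _ := e1
        _ = _ := by rw [hk']; ring
    have e3 : ((h : ℤ) - s) ^ 2 * k < ((k : ℤ) + 3) * ((h : ℤ) ^ 2 - s * k) := by
      have hck : (c : ℤ) * k < N * h := by exact_mod_cast hlo
      have hh' : (0 : ℤ) < h := by exact_mod_cast hh0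
      refine lt_of_mul_lt_mul_right ?_ (show (0 : ℤ) ≤ N by positivity)
      calc ((h : ℤ) - s) ^ 2 * k * N = ((h : ℤ) - s) ^ 2 * N * k := by ring
        _ ≤ ((k : ℤ) + 3) * ((c : ℤ) * h - s * N) * k :=
          mul_le_mul_of_nonneg_right e2 (by positivity)
        _ = ((k : ℤ) + 3) * (h * ((c : ℤ) * k) - s * N * k) := by ring
        _ < ((k : ℤ) + 3) * (h * ((N : ℤ) * h) - s * N * k) :=
          mul_lt_mul_of_pos_left (by nlinarith) (by positivity)
        _ = _ := by ring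
    by_contra hcon
    have hkZ : (26 : ℤ) ≤ k := by omega
    have hh2' : (h : ℤ) ^ 2 ≤ 3 * ((k : ℤ) + 3 + s) := by exact_mod_cast hh2
    exact k_large_false hkZ (by exact_mod_cast hs) hh2' e3
  have hh10 : h < 10 := by
    by_contra hcon
    have : 10 ^ 2 ≤ h ^ 2 := Nat.pow_le_pow_left (by omega) 2
    rcases hs with rfl | rfl <;> omega
  -- the checker
  have hok := tripleOK_true (k1 := k1) hk2 h23 hk25
  unfold tripleOK at hok
  simp only [← h1, ← h2, ← h3, ← hN, ← hk, Bool.or_eq_true, Bool.not_eq_true',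
    Bool.and_eq_false_iff, decide_eq_false_iff_not, beq_eq_false_iff_ne, List.all_eq_true,
    List.mem_range, Bool.and_eq_true] at hok
  have hm2n : m < 2 * n1 := by
    by_contra hcon
    have : (2 * n1) ^ 2 ≤ m ^ 2 := Nat.pow_le_pow_left (by omega) 2
    nlinarith
  rcases hok with (hok | hok) | hok
  · exact hok ⟨hk1, hk2, h23, hk25⟩
  · rcases hok with (hok | hok) | hok
    · exact hok c12
    · exact hok c13
    · exact hok c23
  have hok' := hok m hm2n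
  rcases hok' with hok' | ⟨hp1, hm1⟩
  · exact hok' ⟨hm, hm2⟩
  have heq' : (h : ℤ) * ((x : ℤ) - y) ^ 2 = c * x * m := by
    have hp0 : (p : ℤ) ≠ 0 := by
      have : 0 < p := by rw [hp, h2, h3]; positivity
      exact_mod_cast this.ne'
    refine mul_left_cancel₀ hp0 ?_
    calc (p : ℤ) * ((h : ℤ) * ((x : ℤ) - y) ^ 2) = (n2 * n3 * h : ℤ) * ((x : ℤ) - y) ^ 2 := by
          rw [hp]; push_cast; ring
      _ = c * x * (X : ℤ) := heq
      _ = _ := by rw [hX]; push_cast; ring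
  have hs0 : s ≤ 2 := by omega
  have hfs' : (x : ℤ) + k1 * X + s * N < N * h →
      ((N : ℤ) * h - (x + k1 * X + s * N)) ^ 2 ≤
        ((k2 + k3 + 2 : ℕ) : ℤ) *
          ((N : ℤ) * c * h - (1 + x ^ 2 + k1 * X ^ 2 + s * N ^ 2)) := by
    intro hlt
    have := hfs ((N : ℤ) * h - (x + k1 * X + s * N)) (by push_cast; ring) (by linarith)
    push_cast at this ⊢
    linarith
  have fin : hsOK N k (k2 + k3 + 2) k1 n3 X x m = true → False := by
    intro hgo
    simp only [hsOK, List.all_eq_true, List.mem_range, Bool.or_eq_true, Bool.not_eq_true',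
      decide_eq_false_iff_not] at hgo
    rcases hgo h hh10 s (by simp; omega) with hgo | hgo
    · exact hgo hskh
    · exact leaf_false hN0 (by omega) (by omega) (by omega) hh0 (by omega) hm hgo hhi hlo hch
        hfix' hfs' heq' hy hxG
  rcases he with rfl | rfl
  · -- `x = X - 1`
    have hxX : X = x + 1 := by omega
    rcases hp1 with hp1 | hp1
    · refine hp1 (Nat.mod_eq_zero_of_dvd ?_)
      rw [← hX, hxX, show x + 1 - 2 = x - 1 by omega, ← Int.natCast_dvd_natCast,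
        Nat.cast_sub (by omega)]
      exact_mod_cast hd1
    · rw [← hX, hxX, Nat.add_sub_cancel, ← hxX] at hp1
      exact fin hp1
  · have hxX : x = X + 1 := by omega
    rcases hm1 with hm1 | hm1
    · refine hm1 (Nat.mod_eq_zero_of_dvd ?_)
      rw [← hX, show X + 2 = x + 1 by omega, ← Int.natCast_dvd_natCast]
      simpa using hd1
    · rw [← hX, ← hxX] at hm1
      exact fin hm1

end CfsgLib.SuzSC
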