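import Mathlib
import Cfsg.Agent.Lib.Involutions
import Cfsg.Agent.Lib.Elementary

/-!
Strongly self-centralising subgroups with a small automiser.
-/

set_option autoImplicit false
set_option linter.unusedSectionVars false

namespace CfsgLib.SuzSC

open Subgroup

universe u

variable {G : Type u} [Group G] [Finite G]

/-- A strongly self-centralising subgroup of order at least five with automiser of order `e`, two or four. -/
structure SC (A : Subgroup G) (e : ℕ) : Prop where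
  cent : ∀ a ∈ A, a ≠ 1 → centralizer ({a} : Set G) = A
  idx : A.relIndex (normalizer (A : Set G)) = e
  e24 : e = 2 ∨ e = 4
  five : 5 ≤ Nat.card A

variable {A B : Subgroup G} {e e' : ℕ}

theorem SC.mem_of_comm (h : SC A e) {a x : G} (ha : a ∈ A) (h1 : a ≠ 1) (hx : x * a = a * x) : x ∈ A := by
  rw [← h.cent a ha h1, mem_centralizer_singleton_iff]
  exact hx

theorem SC.comm (h : SC A e) {a b : G} (ha : a ∈ A) (hb : b ∈ A) : a * b = b * a := by
  by_cases h1 : b = 1
  · subst h1; simp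
  · exact mem_centralizer_singleton_iff.mp ((h.cent b hb h1).symm ▸ ha)

theorem SC.mem_normalizer (h : SC A e) {a g : G} (ha : a ∈ A) (h1 : a ≠ 1) (hg : g * a * g⁻¹ ∈ A) :
    g ∈ normalizer (A : Set G) := by
  have hne : g * a * g⁻¹ ≠ 1 := fun e => h1 (conj_eq_one_iff.mp e)
  have hiff : ∀ b, b * a = a * b ↔ g * b * g⁻¹ * (g * a * g⁻¹) = g * a * g⁻¹ * (g * b * g⁻¹) := by
    intro b
    rw [show g * b * g⁻¹ * (g * a * g⁻¹) = g * (b * a) * g⁻¹ by group,
      show g * a * g⁻¹ * (g * b * g⁻¹) = g * (a * b) * g⁻¹ by group]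
    simp
  rw [mem_normalizer_iff]
  intro b
  constructor
  · intro hb
    exact h.mem_of_comm hg hne ((hiff b).mp (h.comm hb ha))
  · intro hb
    exact h.mem_of_comm ha h1 ((hiff b).mpr (h.comm hb hg))

theorem SC.card_normalizer (h : SC A e) :
    Nat.card (normalizer (A : Set G)) = e * Nat.card A := by
  have h2 := relIndex_mul_relIndex (⊥ : Subgroup G) A (normalizer (A : Set G)) bot_le le_normalizer
  simp only [relIndex_bot_left, h.idx] at h2
  rw [← h2, mul_comm]

theorem SC.e_pos (h : SC A e) : 0 < e := by rcases h.e24 with r | r <;> omega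

theorem SC.even_e (h : SC A e) : 2 ∣ e := by rcases h.e24 with r | r <;> omega

theorem SC.exists_ne_one (h : SC A e) : ∃ a ∈ A, a ≠ 1 := by
  by_contra hall
  push Not at hall
  have : A = ⊥ := (eq_bot_iff_forall _).mpr hall
  have h5 := h.five
  rw [this, card_bot] at h5
  omega

theorem SC.odd (h : SC A e) : Odd (Nat.card A) := by
  classical
  haveI : Fact (Nat.Prime 2) := ⟨Nat.prime_two⟩
  rw [← Nat.not_even_iff_odd]
  intro hev
  set N := normalizer (A : Set G) with hN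
  let S : Sylow 2 N := default
  set S' : Subgroup G := (S : Subgroup N).map N.subtype with hS'
  have hp2 : IsPGroup 2 S' := S.2.map _
  have hcard : Nat.card S' = Nat.card (S : Subgroup N) :=
    Nat.card_congr ((S : Subgroup N).equivMapOfInjective N.subtype N.subtype_injective).symm.toEquiv
  have hS'N : S' ≤ N := map_subtype_le _
  -- an element of order two of `A` central in `S'`
  obtain ⟨⟨a0, ha0⟩, ha0o⟩ := exists_prime_orderOf_dvd_card' (G := A) 2 (even_iff_two_dvd.mp hev)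
  rw [orderOf_mk] at ha0o
  have hP : IsPGroup 2 (zpowers (⟨a0, le_normalizer ha0⟩ : N)) := by
    refine IsPGroup.of_card (n := 1) ?_
    rw [Nat.card_zpowers, orderOf_mk, ha0o, pow_one]
  obtain ⟨T, hT⟩ := hP.exists_le_sylow
  obtain ⟨g, hg⟩ := MulAction.exists_smul_eq N T S
  have hgS : g * ⟨a0, le_normalizer ha0⟩ * g⁻¹ ∈ (S : Subgroup N) := by
    rw [← hg]
    exact smul_mem_pointwise_smul _ (MulAut.conj g) _ (hT (mem_zpowers _))
  have hmem : ((g : G) * a0 * (g : G)⁻¹) ∈ A ⊓ S' :=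
    ⟨(mem_normalizer_iff.mp g.2 a0).mp ha0, mem_map.mpr ⟨_, hgS, rfl⟩⟩
  haveI hn : ((A ⊓ S').subgroupOf S').Normal := by
    refine ⟨fun x hx y => ?_⟩
    rw [mem_subgroupOf] at hx ⊢
    exact ⟨(mem_normalizer_iff.mp (hS'N y.2) _).mp hx.1, (y * x * y⁻¹).2⟩
  haveI : Nontrivial S' := by
    refine ⟨⟨⟨_, hmem.2⟩, 1, fun hh => ?_⟩⟩
    have := congrArg Subtype.val hh
    simp only [OneMemClass.coe_one, conj_eq_one_iff] at this
    rw [this, orderOf_one] at ha0o
    omega
  have hne : ((A ⊓ S').subgroupOf S') ≠ ⊥ := by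
    intro hh
    have : (⟨_, hmem.2⟩ : S') ∈ (A ⊓ S').subgroupOf S' := mem_subgroupOf.mpr hmem
    rw [hh, mem_bot] at this
    have := congrArg Subtype.val this
    simp only [OneMemClass.coe_one, conj_eq_one_iff] at this
    rw [this, orderOf_one] at ha0o
    omega
  obtain ⟨z, hz, hz1⟩ : ∃ z : S', z ∈ (A ⊓ S').subgroupOf S' ⊓ center S' ∧ z ≠ 1 := by
    by_contra hall
    push Not at hall
    haveI : Group.IsNilpotent S' := hp2.isNilpotent
    exact CfsgLib.inf_center_ne_bot_of_nilpotent hne ((eq_bot_iff_forall _).mpr hall)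
  have hzA : (z : G) ∈ A := (mem_subgroupOf.mp hz.1).1
  have hle : S' ≤ A := fun s hs =>
    h.mem_of_comm hzA (fun hh => hz1 (Subtype.ext hh))
      (congrArg Subtype.val (mem_center_iff.mp hz.2 ⟨s, hs⟩))
  -- but the index is even
  have hd : Nat.card (S : Subgroup N) ∣ Nat.card A := hcard ▸ card_dvd_of_le hle
  rw [Sylow.card_eq_multiplicity, h.card_normalizer,
    Nat.factorization_mul h.e_pos.ne' Nat.card_pos.ne', Finsupp.add_apply,
    Nat.prime_two.pow_dvd_iff_le_factorization Nat.card_pos.ne'] at hd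
  have : 1 ≤ e.factorization 2 :=
    (Nat.prime_two.pow_dvd_iff_le_factorization h.e_pos.ne').mp (by simpa using h.even_e)
  omega

theorem SC.coprime_two {a : G} (h : SC A e) (ha : a ∈ A) : Odd (orderOf a) :=
  h.odd.of_dvd_nat (orderOf_dvd_natCard (A.subtype ⟨a, ha⟩) |> fun _ => A.orderOf_dvd_natCard ha)

theorem SC.orderOf_ne_two (h : SC A e) {j : G} (hj : orderOf j = 2) : j ∉ A := fun hm => by
  have := h.coprime_two hm
  rw [hj] at this
  exact absurd this (by decide)

theorem SC.sq_eq_one (h : SC A e) {x : G} (hxA : x ∉ A) (h2 : x * x ∈ A) : x * x = 1 := by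
  by_contra hne
  exact hxA (h.mem_of_comm h2 hne (by group))

theorem SC.inverts (h : SC A e) {x a : G} (hx : x ∈ normalizer (A : Set G)) (hxA : x ∉ A) (h2 : x * x = 1)
    (ha : a ∈ A) : x * a * x⁻¹ = a⁻¹ := by
  have hxi : x⁻¹ = x := inv_eq_of_mul_eq_one_right h2
  set b := x * a * x⁻¹ with hb
  have hbA : b ∈ A := (mem_normalizer_iff.mp hx a).mp ha
  have hfix : x * (a * b) * x⁻¹ = a * b := by
    rw [h.comm ha hbA, show x * (b * a) * x⁻¹ = x * b * x⁻¹ * (x * a * x⁻¹) by group, ← hb,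
      show x * b * x⁻¹ = x * x * a * (x * x)⁻¹ by rw [hb]; group, h2]
    simp only [one_mul, inv_one, mul_one]
    exact h.comm ha hbA
  by_cases h1 : a * b = 1
  · exact (inv_eq_of_mul_eq_one_right h1).symm
  · exact absurd (h.mem_of_comm (mul_mem ha hbA) h1 (mul_inv_eq_iff_eq_mul.mp hfix)) hxA

theorem SC.exists_inverter (h : SC A e) :
    ∃ j : G, orderOf j = 2 ∧ j ∈ normalizer (A : Set G) ∧ j ∉ A ∧ ∀ a ∈ A, j * a * j⁻¹ = a⁻¹ := by
  haveI : Fact (Nat.Prime 2) := ⟨Nat.prime_two⟩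
  obtain ⟨⟨j, hjN⟩, hj⟩ := exists_prime_orderOf_dvd_card' (G := normalizer (A : Set G)) 2
    (by rw [h.card_normalizer]; exact dvd_mul_of_dvd_left h.even_e _)
  rw [orderOf_mk] at hj
  exact ⟨j, hj, hjN, h.orderOf_ne_two hj, fun a ha =>
    h.inverts hjN (h.orderOf_ne_two hj) (CfsgLib.Involutions.mul_self_eq_one_of_orderOf hj) ha⟩

theorem SC.inv_ne (h : SC A e) {a : G} (ha : a ∈ A) (h1 : a ≠ 1) : a⁻¹ ≠ a := fun hh => by
  have h2 : orderOf a ∣ 2 := orderOf_dvd_of_pow_eq_one (by rw [pow_two, ← inv_eq_iff_mul_eq_one, hh])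
  rcases (Nat.dvd_prime Nat.prime_two).mp h2 with r | r
  · exact h1 (orderOf_eq_one_iff.mp r)
  · exact h.orderOf_ne_two r ha

/-- Exactly `|A|` involutions invert a given nontrivial element of `A`. -/
theorem SC.card_inverters (h : SC A e) {a : G} (ha : a ∈ A) (h1 : a ≠ 1) :
    Nat.card {j : G // orderOf j = 2 ∧ j * a * j⁻¹ = a⁻¹} = Nat.card A := by
  obtain ⟨j0, hj0, -, hj0A, hinv⟩ := h.exists_inverter
  have hsq := CfsgLib.Involutions.mul_self_eq_one_of_orderOf hj0
  refine (Nat.card_congr ?_).symm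
  refine ⟨fun b => ⟨b * j0, ?_, ?_⟩, fun j => ⟨(j : G) * j0, ?_⟩, fun b => ?_, fun j => ?_⟩
  · rw [CfsgLib.Involutions.orderOf_eq_two_iff']
    refine ⟨?_, fun hh => hj0A ?_⟩
    · calc (b : G) * j0 * (b * j0) = b * (j0 * b * j0⁻¹) * (j0 * j0) := by group
        _ = 1 := by rw [hinv b b.2, hsq]; group
    · have : j0 = (b : G)⁻¹ := (inv_eq_of_mul_eq_one_right hh).symm
      rw [this]; exact inv_mem b.2
  · calc (b : G) * j0 * a * (b * j0)⁻¹ = b * (j0 * a * j0⁻¹) * (b : G)⁻¹ := by group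
      _ = a⁻¹ := by rw [hinv a ha, h.comm b.2 (inv_mem ha)]; group
  · refine h.mem_of_comm ha h1 ?_
    have hj : (j : G) * a * (j : G)⁻¹ = a⁻¹ := j.2.2
    have e1 : (j : G) * j0 * a * ((j : G) * j0)⁻¹ = a := by
      calc _ = (j : G) * (j0 * a * j0⁻¹) * (j : G)⁻¹ := by group
        _ = ((j : G) * a * (j : G)⁻¹)⁻¹ := by rw [hinv a ha]; group
        _ = a := by rw [hj, inv_inv]
    exact mul_inv_eq_iff_eq_mul.mp e1
  · exact Subtype.ext (show (b : G) * j0 * j0 = b by rw [mul_assoc, hsq, mul_one])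
  · exact Subtype.ext (show (j : G) * j0 * j0 = j by rw [mul_assoc, hsq, mul_one])

theorem SC.exists_order_four (h : SC A 4) : ∃ v : G, orderOf v = 4 := by
  set N := normalizer (A : Set G) with hN
  obtain ⟨j, hj, hjN, hjA, hinv⟩ := h.exists_inverter
  by_cases hall : ∀ x ∈ N, x ∉ A → x * x = 1
  · exfalso
    have hsub : ∀ x ∈ N, x ∈ A ∨ x * j ∈ A := by
      intro x hx
      by_cases hxA : x ∈ A
      · exact Or.inl hxA
      right
      obtain ⟨a, ha, h1⟩ := h.exists_ne_one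
      refine h.mem_of_comm ha h1 (mul_inv_eq_iff_eq_mul.mp ?_)
      calc x * j * a * (x * j)⁻¹ = x * (j * a * j⁻¹) * x⁻¹ := by group
        _ = a := by rw [hinv a ha, h.inverts hx hxA (hall x hx hxA) (inv_mem ha), inv_inv]
    have h4 := h.idx
    have : A.relIndex N ≤ 2 := by
      rw [relIndex, index, ← Nat.card_fin 2]
      refine Nat.card_le_card_of_surjective
        (fun i : Fin 2 => ((if i = 0 then 1 else ⟨j, hjN⟩ : N) : N ⧸ A.subgroupOf N)) fun q => ?_
      obtain ⟨⟨x, hx⟩, rfl⟩ := QuotientGroup.mk_surjective q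
      rcases hsub x hx with hm | hm
      · refine ⟨0, QuotientGroup.eq.mpr (mem_subgroupOf.mpr ?_)⟩
        simpa using hm
      · refine ⟨1, QuotientGroup.eq.mpr (mem_subgroupOf.mpr ?_)⟩
        have hji : j⁻¹ = j := CfsgLib.Involutions.inv_eq_self_of_orderOf hj
        have hsq := CfsgLib.Involutions.mul_self_eq_one_of_orderOf hj
        have e1 : j⁻¹ * x = j * (x * j) * j⁻¹ := by
          rw [hji, show j * (x * j) * j = j * x * (j * j) by group, hsq, mul_one]
        simp only [Fin.isValue, one_ne_zero, ↓reduceIte, Subgroup.coe_mul, InvMemClass.coe_inv]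
        rw [e1]
        exact (mem_normalizer_iff.mp hjN _).mp hm
    rw [show A.relIndex N = 4 from h4] at this
    omega
  push Not at hall
  obtain ⟨x, hx, hxA, hne⟩ := hall
  refine ⟨x, ?_⟩
  have hn : (A.subgroupOf N).Normal := normal_in_normalizer
  have h4 : (⟨x, hx⟩ : N) ^ (A.subgroupOf N).index ∈ A.subgroupOf N := pow_index_mem _ _
  rw [← relIndex, h.idx, mem_subgroupOf] at h4
  have h4' : x ^ 4 ∈ A := h4
  by_cases h2 : x * x ∈ A
  · exact absurd (h.sq_eq_one hxA h2) hne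
  have hx4 : x ^ 4 = 1 := by
    by_contra h1
    exact hxA (h.mem_of_comm h4' h1 (Commute.self_pow x 4))
  exact orderOf_eq_prime_pow (p := 2) (n := 1) (by simpa [pow_two] using hne) (by simpa using hx4)

/-- Elements of two non-conjugate such subgroups are never conjugate. -/
theorem SC.not_conj (hA : SC A e) (hB : SC B e')
    (hnc : ∀ g : G, A.map (MulAut.conj g).toMonoidHom ≠ B) {a g : G} (ha : a ∈ A) (h1 : a ≠ 1) :
    g * a * g⁻¹ ∉ B := by
  intro hb
  refine hnc g (Subgroup.ext fun x => ?_)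
  have hne : g * a * g⁻¹ ≠ 1 := fun e => h1 (conj_eq_one_iff.mp e)
  simp only [mem_map, MulEquiv.coe_toMonoidHom, MulAut.conj_apply]
  constructor
  · rintro ⟨b, hb', rfl⟩
    refine hB.mem_of_comm hb hne ?_
    calc g * b * g⁻¹ * (g * a * g⁻¹) = g * (b * a) * g⁻¹ := by group
      _ = g * a * g⁻¹ * (g * b * g⁻¹) := by rw [hA.comm hb' ha]; group
  · intro hx
    refine ⟨g⁻¹ * x * g, hA.mem_of_comm ha h1 ?_, by group⟩
    calc g⁻¹ * x * g * a = g⁻¹ * (x * (g * a * g⁻¹)) * g := by group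
      _ = a * (g⁻¹ * x * g) := by rw [hB.comm hx hb]; group

theorem SC.coprime_of_not_conj (hA : SC A e) (hB : SC B e')
    (hnc : ∀ g : G, A.map (MulAut.conj g).toMonoidHom ≠ B) : (Nat.card A).Coprime (Nat.card B) := by
  classical
  by_contra hco
  obtain ⟨p, hp, hpA, hpB⟩ := Nat.Prime.not_coprime_iff_dvd.mp hco
  haveI : Fact p.Prime := ⟨hp⟩
  obtain ⟨⟨a, ha⟩, hao⟩ := exists_prime_orderOf_dvd_card' (G := A) p hpA
  obtain ⟨⟨b, hb⟩, hbo⟩ := exists_prime_orderOf_dvd_card' (G := B) p hpB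
  rw [orderOf_mk] at hao hbo
  have hPa : IsPGroup p (zpowers a) := IsPGroup.of_card (n := 1) (by rw [Nat.card_zpowers, hao, pow_one])
  have hPb : IsPGroup p (zpowers b) := IsPGroup.of_card (n := 1) (by rw [Nat.card_zpowers, hbo, pow_one])
  obtain ⟨S, hS⟩ := hPa.exists_le_sylow
  obtain ⟨T, hT⟩ := hPb.exists_le_sylow
  obtain ⟨g, hg⟩ := MulAction.exists_smul_eq G T S
  have ha1 : a ≠ 1 := fun e => hp.ne_one (by rw [← hao, e, orderOf_one])
  have hb1 : b ≠ 1 := fun e => hp.ne_one (by rw [← hbo, e, orderOf_one])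
  haveI : Nontrivial (S : Subgroup G) :=
    ⟨⟨⟨a, hS (mem_zpowers a)⟩, 1, fun hh => ha1 (congrArg Subtype.val hh)⟩⟩
  haveI := S.2.center_nontrivial
  obtain ⟨z, hz1⟩ := exists_ne (1 : center (S : Subgroup G))
  have hzA : ((z : (S : Subgroup G)) : G) ∈ A :=
    hA.mem_of_comm ha ha1 (congrArg Subtype.val
      (mem_center_iff.mp z.2 ⟨a, hS (mem_zpowers a)⟩)).symm
  have hz1' : ((z : (S : Subgroup G)) : G) ≠ 1 := fun hh => hz1 (Subtype.ext (Subtype.ext hh))
  have hgS : g * b * g⁻¹ ∈ (S : Subgroup G) := by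
    rw [← hg]
    exact smul_mem_pointwise_smul _ (MulAut.conj g) _ (hT (mem_zpowers b))
  have hgA : g * b * g⁻¹ ∈ A := hA.mem_of_comm hzA hz1'
    (congrArg Subtype.val (mem_center_iff.mp z.2 ⟨_, hgS⟩))
  have hne : g * b * g⁻¹ ≠ 1 := fun e => hb1 (conj_eq_one_iff.mp e)
  exact hA.not_conj hB hnc hgA hne (g := g⁻¹) (by
    rw [show g⁻¹ * (g * b * g⁻¹) * g⁻¹⁻¹ = b by group]; exact hb)

/-- The classes meeting `A \ {1}`. -/
noncomputable def classesOf (A : Subgroup G) : Finset (ConjClasses G) :=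
  letI := Fintype.ofFinite G
  letI := Classical.decEq (ConjClasses G)
  letI : DecidablePred fun g : G => g ∈ A ∧ g ≠ 1 := Classical.decPred _
  (Finset.univ.filter fun g : G => g ∈ A ∧ g ≠ 1).image ConjClasses.mk

theorem mem_classesOf {C : ConjClasses G} :
    C ∈ classesOf A ↔ ∃ a, a ∈ A ∧ a ≠ 1 ∧ ConjClasses.mk a = C := by
  classical
  simp [classesOf, and_assoc]

theorem SC.card_fiber (h : SC A e) {a : G} (ha : a ∈ A) (h1 : a ≠ 1) :
    Nat.card {b : G // (b ∈ A ∧ b ≠ 1) ∧ IsConj a b} = e := by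
  set N := normalizer (A : Set G) with hN
  rw [← h.idx, relIndex, index]
  symm
  refine Nat.card_congr (Equiv.ofBijective
    (Quotient.lift (fun n : N => (⟨(n : G) * a * (n : G)⁻¹,
      ⟨(mem_normalizer_iff.mp n.2 a).mp ha, fun e => h1 (conj_eq_one_iff.mp e)⟩,
      isConj_iff.mpr ⟨n, rfl⟩⟩ : {b : G // (b ∈ A ∧ b ≠ 1) ∧ IsConj a b})) ?_) ⟨?_, ?_⟩)
  · intro m n hmn
    have hmem : ((m : G)⁻¹ * n) ∈ A := mem_subgroupOf.mp (QuotientGroup.leftRel_apply.mp hmn)
    refine Subtype.ext (show (m : G) * a * (m : G)⁻¹ = (n : G) * a * (n : G)⁻¹ from ?_)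
    calc (m : G) * a * (m : G)⁻¹ = m * (((m : G)⁻¹ * n) * a * ((m : G)⁻¹ * n)⁻¹) * (m : G)⁻¹ := by
          rw [h.comm hmem ha]; group
      _ = _ := by group
  · intro q r hqr
    induction q using Quotient.inductionOn with | _ m =>
    induction r using Quotient.inductionOn with | _ n =>
    have e1 : (m : G) * a * (m : G)⁻¹ = (n : G) * a * (n : G)⁻¹ := congrArg Subtype.val hqr
    refine Quotient.sound (QuotientGroup.leftRel_apply.mpr (mem_subgroupOf.mpr
      (h.mem_of_comm ha h1 ?_)))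
    show (m : G)⁻¹ * n * a = a * ((m : G)⁻¹ * n)
    calc (m : G)⁻¹ * n * a = (m : G)⁻¹ * ((n : G) * a * (n : G)⁻¹) * n := by group
      _ = _ := by rw [← e1]; group
  · rintro ⟨b, ⟨hb, -⟩, hc⟩
    obtain ⟨g, hg⟩ := isConj_iff.mp hc
    exact ⟨Quotient.mk _ ⟨g, h.mem_normalizer ha h1 (hg ▸ hb)⟩, Subtype.ext hg⟩

theorem SC.card_classesOf (h : SC A e) : e * (classesOf A).card + 1 = Nat.card A := by
  classical
  letI := Fintype.ofFinite G
  set S := Finset.univ.filter fun g : G => g ∈ A ∧ g ≠ 1 with hS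
  have hSc : S.card + 1 = Nat.card A := by
    have : S = (Finset.univ.filter fun g : G => g ∈ A).erase 1 := by
      ext g; simp [hS, and_comm]
    rw [this, Finset.card_erase_add_one (by simp), Nat.card_eq_fintype_card, Fintype.card_subtype]
  have hfib : ∀ C ∈ classesOf A, (S.filter fun g => ConjClasses.mk g = C).card = e := by
    intro C hC
    obtain ⟨a, ha, h1, rfl⟩ := mem_classesOf.mp hC
    rw [← h.card_fiber ha h1, Nat.card_eq_fintype_card, Fintype.card_subtype, hS, Finset.filter_filter]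
    refine congrArg Finset.card (Finset.filter_congr fun g _ => ?_)
    rw [ConjClasses.mk_eq_mk_iff_isConj, isConj_comm]
  rw [← hSc, Finset.card_eq_sum_card_fiberwise (f := ConjClasses.mk) (t := classesOf A)
    (fun g hg => by
      simp only [Finset.mem_coe, hS, Finset.mem_filter] at hg
      exact Finset.mem_coe.mpr (mem_classesOf.mpr ⟨g, hg.2.1, hg.2.2, rfl⟩)),
    Finset.sum_congr rfl hfib, Finset.sum_const, smul_eq_mul, mul_comm]

theorem SC.disjoint_classesOf (hA : SC A e) (hB : SC B e')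
    (hnc : ∀ g : G, A.map (MulAut.conj g).toMonoidHom ≠ B) : Disjoint (classesOf A) (classesOf B) := by
  rw [Finset.disjoint_left]
  intro C hC hC'
  obtain ⟨a, ha, h1, rfl⟩ := mem_classesOf.mp hC
  obtain ⟨b, hb, -, hb'⟩ := mem_classesOf.mp hC'
  obtain ⟨g, hg⟩ := isConj_iff.mp (ConjClasses.mk_eq_mk_iff_isConj.mp hb'.symm)
  exact hA.not_conj hB hnc ha h1 (g := g) (hg ▸ hb)

end CfsgLib.SuzSC
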