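import Cfsg.Agent.Lib.SuzSC.Basic
import Cfsg.Agent.Lib.CharTheory
import Cfsg.Agent.Lib.CharTheory.Linear

/-!
Coefficients of the characters induced from `1 - θ` on a strongly self-centralising subgroup.
-/

set_option autoImplicit false
set_option linter.unusedSectionVars false

namespace CfsgLib.SuzSC

open Cfsg CfsgLib.CharTheory
open scoped ComplexConjugate

universe u

variable {G : Type u} [Group G] [Fintype G] {A B : Subgroup G} [Fintype ↥A] [Fintype ↥B] {e e' : ℕ}

/-- The principal character of `A`. -/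
def one (A : Subgroup G) : IrrCharacter ↥A := ⟨fun _ => 1, isIrrCharacter_one⟩

theorem exists_mult (χ : IrrCharacter G) (θ : IrrCharacter ↥A) :
    ∃ n : ℕ, classInner (fun a : A => (χ : G → ℂ) a) (θ : ↥A → ℂ) = n :=
  classInner_char_nat (isCharacter_restrict (isCharacter_of_irr χ.2) A) (isCharacter_of_irr θ.2)

/-- The multiplicity of `θ` in the restriction of `χ`. -/
noncomputable def mult (χ : IrrCharacter G) (θ : IrrCharacter ↥A) : ℕ := (exists_mult χ θ).choose

theorem mult_spec (χ : IrrCharacter G) (θ : IrrCharacter ↥A) :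
    classInner (fun a : A => (χ : G → ℂ) a) (θ : ↥A → ℂ) = mult χ θ := (exists_mult χ θ).choose_spec

/-- The coefficient of `χ` in the character induced from `1 - θ`. -/
noncomputable def coef (χ : IrrCharacter G) (θ : IrrCharacter ↥A) : ℤ :=
  (mult χ (one A) : ℤ) - mult χ θ

@[simp] theorem coef_one (χ : IrrCharacter G) : coef χ (one A) = 0 := sub_self _

theorem classInner_one_sub (χ : IrrCharacter G) (θ : IrrCharacter ↥A) :
    classInner (fun a : A => (χ : G → ℂ) a) ((one A : ↥A → ℂ) - (θ : ↥A → ℂ)) = (coef χ θ : ℂ) := by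
  rw [classInner_sub_right, mult_spec, mult_spec, coef]
  push_cast
  rfl

/-- The character induced from `1 - θ`. -/
noncomputable def psi (θ : IrrCharacter ↥A) : G → ℂ := indFun A ((one A : ↥A → ℂ) - (θ : ↥A → ℂ))

theorem classInner_irr_psi (χ : IrrCharacter G) (θ : IrrCharacter ↥A) :
    classInner (χ : G → ℂ) (psi θ) = (coef χ θ : ℂ) := by
  rw [psi, frobenius_reciprocity' A _ (isClassFunction_irr χ.2), classInner_one_sub]

theorem classInner_psi_irr (χ : IrrCharacter G) (θ : IrrCharacter ↥A) :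
    classInner (psi θ) (χ : G → ℂ) = (coef χ θ : ℂ) := by
  rw [← classInner_comm, classInner_irr_psi, map_intCast]

theorem psi_eq_sum (θ : IrrCharacter ↥A) (g : G) :
    psi θ g = ∑ χ : IrrCharacter G, (coef χ θ : ℂ) * (χ : G → ℂ) g := by
  have h := congrFun (eq_sum_irr (indFun_isClassFunction A ((one A : ↥A → ℂ) - (θ : ↥A → ℂ)))) g
  simp only [Finset.sum_apply, Pi.smul_apply, smul_eq_mul] at h
  refine h.trans (Finset.sum_congr rfl fun χ _ => ?_)
  rw [show classInner (indFun A ((one A : ↥A → ℂ) - (θ : ↥A → ℂ))) (χ : G → ℂ) = (coef χ θ : ℂ)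
    from classInner_psi_irr χ θ]

theorem classInner_psi_psi (θ : IrrCharacter ↥A) (φ : IrrCharacter ↥B) :
    classInner (psi θ) (psi φ) = ((∑ χ : IrrCharacter G, coef χ θ * coef χ φ : ℤ) : ℂ) := by
  have hcf : IsClassFunction G (psi θ) := indFun_isClassFunction _ _
  rw [classInner_eq_sum_irr hcf]
  push_cast
  exact Finset.sum_congr rfl fun χ _ => by rw [classInner_psi_irr, classInner_irr_psi]

theorem coef_principal {θ : IrrCharacter ↥A} (hθ : θ ≠ one A) :
    coef (⟨fun _ => 1, isIrrCharacter_one⟩ : IrrCharacter G) θ = 1 := by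
  have h1 : (mult (⟨fun _ => 1, isIrrCharacter_one⟩ : IrrCharacter G) (one A) : ℂ) = 1 := by
    rw [← mult_spec]; exact classInner_irr_self (one A).2
  have h2 : (mult (⟨fun _ => 1, isIrrCharacter_one⟩ : IrrCharacter G) θ : ℂ) = 0 := by
    rw [← mult_spec]; exact classInner_irr_ne (one A).2 θ.2 fun h => hθ (Subtype.ext h.symm)
  have h1' : mult (⟨fun _ => 1, isIrrCharacter_one⟩ : IrrCharacter G) (one A) = 1 := by exact_mod_cast h1
  have h2' : mult (⟨fun _ => 1, isIrrCharacter_one⟩ : IrrCharacter G) θ = 0 := by exact_mod_cast h2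
  simp [coef, h1', h2']

theorem SC.apply_one (h : SC A e) (θ : IrrCharacter ↥A) : (θ : ↥A → ℂ) 1 = 1 :=
  degree_one_of_commutative (fun a b => Subtype.ext (h.comm a.2 b.2)) θ.2

theorem SC.card_irr (h : SC A e) : Fintype.card (IrrCharacter ↥A) = Nat.card A := by
  haveI : Std.Commutative (α := ↥A) (· * ·) := ⟨fun a b => Subtype.ext (h.comm a.2 b.2)⟩
  rw [← Nat.card_eq_fintype_card, card_irr_eq_card_conjClasses]
  symm
  refine Nat.card_congr (Equiv.ofBijective ConjClasses.mk ⟨fun a b hab => ?_, ConjClasses.mk_surjective⟩)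
  obtain ⟨c, hc⟩ := isConj_iff.mp (ConjClasses.mk_eq_mk_iff_isConj.mp hab)
  rw [← hc]
  apply Subtype.ext
  show (a : G) = (c : G) * a * (c : G)⁻¹
  rw [h.comm c.2 a.2]
  group

theorem SC.sum_apply (h : SC A e) {a : ↥A} (h1 : a ≠ 1) :
    ∑ θ : IrrCharacter ↥A, (θ : ↥A → ℂ) a = 0 := by
  classical
  have := sum_irr_apply_mul_degree a
  rw [if_neg h1] at this
  rw [← this]
  exact Finset.sum_congr rfl fun θ _ => by rw [h.apply_one θ, mul_one]

theorem SC.val_eq (h : SC A e) (χ : IrrCharacter G) {a : ↥A} (h1 : a ≠ 1) :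
    (χ : G → ℂ) a = -∑ θ : IrrCharacter ↥A, (coef χ θ : ℂ) * (θ : ↥A → ℂ) a := by
  classical
  have he := congrFun (eq_sum_irr (isClassFunction_char
    (isCharacter_restrict (isCharacter_of_irr χ.2) A))) a
  simp only [Finset.sum_apply, Pi.smul_apply, smul_eq_mul, mult_spec] at he
  rw [he]
  have hcoef : ∀ θ : IrrCharacter ↥A, (mult χ θ : ℂ) = (mult χ (one A) : ℂ) - (coef χ θ : ℂ) := by
    intro θ; rw [coef]; push_cast; ring
  rw [Finset.sum_congr rfl fun θ _ => by rw [hcoef θ, sub_mul], Finset.sum_sub_distrib, ← Finset.mul_sum,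
    h.sum_apply h1, mul_zero, zero_sub]

theorem SC.degree_eq (h : SC A e) (χ : IrrCharacter G) :
    (χ : G → ℂ) 1 = (Nat.card A : ℂ) * mult χ (one A) - ((∑ θ : IrrCharacter ↥A, coef χ θ : ℤ) : ℂ) := by
  classical
  have he := congrFun (eq_sum_irr (isClassFunction_char
    (isCharacter_restrict (isCharacter_of_irr χ.2) A))) 1
  simp only [Finset.sum_apply, Pi.smul_apply, smul_eq_mul, mult_spec, h.apply_one, mul_one] at he
  rw [show (χ : G → ℂ) 1 = (χ : G → ℂ) ((1 : ↥A) : G) by simp, he]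
  simp only [coef]
  push_cast
  rw [Finset.sum_sub_distrib, Finset.sum_const, Finset.card_univ, h.card_irr, nsmul_eq_mul]
  ring

/-- The twist of `θ` by an element of the normaliser. -/
noncomputable def twist (θ : IrrCharacter ↥A) (g : ↥(Subgroup.normalizer (A : Set G))) : ↥A → ℂ :=
  fun a => (θ : ↥A → ℂ) ⟨(g : G)⁻¹ * a * g, (Subgroup.mem_normalizer_iff''.mp g.2 a).mp a.2⟩

theorem twist_irr (h : SC A e) (θ : IrrCharacter ↥A) (g : ↥(Subgroup.normalizer (A : Set G))) :
    IsIrrCharacter ↥A (twist θ g) := by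
  let f : ↥A →* ↥A :=
    { toFun := fun a => ⟨(g : G)⁻¹ * a * g, (Subgroup.mem_normalizer_iff''.mp g.2 a).mp a.2⟩
      map_one' := Subtype.ext (by simp)
      map_mul' := fun a b => Subtype.ext (by
        show (g : G)⁻¹ * ((a : G) * b) * g = (g : G)⁻¹ * a * g * ((g : G)⁻¹ * b * g)
        group) }
  refine isIrrCharacter_of_degree_one (isCharacter_comp (isCharacter_of_irr θ.2) f) ?_
  show (θ : ↥A → ℂ) (f 1) = 1
  rw [map_one, h.apply_one]

theorem twist_mul (θ : IrrCharacter ↥A) (g m : ↥(Subgroup.normalizer (A : Set G))) (hθ : twist θ m = θ) :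
    twist θ (g * m) = twist θ g := by
  funext a
  refine Eq.trans ?_ (congrFun hθ ⟨(g : G)⁻¹ * a * g, (Subgroup.mem_normalizer_iff''.mp g.2 a).mp a.2⟩)
  refine congrArg (θ : ↥A → ℂ) (Subtype.ext ?_)
  simp only [Subgroup.coe_mul]
  group

theorem SC.twist_eq_self_iff (h : SC A e) {θ : IrrCharacter ↥A} (hθ : θ ≠ one A)
    (g : ↥(Subgroup.normalizer (A : Set G))) : twist θ g = θ ↔ (g : G) ∈ A := by
  constructor
  · intro hfix
    by_contra hg
    obtain ⟨φ, hφ⟩ := exists_hom_of_degree_one (isCharacter_of_irr θ.2) (h.apply_one θ)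
    let f : ↥A → ↥A := fun a => a⁻¹ *
      ⟨(g : G)⁻¹ * a * g, (Subgroup.mem_normalizer_iff''.mp g.2 a).mp a.2⟩
    have hf : Function.Injective f := by
      intro a b hab
      have e1 : (a : G)⁻¹ * ((g : G)⁻¹ * a * g) = (b : G)⁻¹ * ((g : G)⁻¹ * b * g) := congrArg Subtype.val hab
      by_contra hne
      have hab1 : (b : G) * (a : G)⁻¹ ≠ 1 := fun hh => hne (Subtype.ext (mul_inv_eq_one.mp hh).symm)
      refine hg (h.mem_of_comm (mul_mem b.2 (inv_mem a.2)) hab1 ?_)
      have hy : (g : G)⁻¹ * a * g ∈ A := (Subgroup.mem_normalizer_iff''.mp g.2 a).mp a.2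
      have e2 : (b : G) * (a : G)⁻¹ = (g : G)⁻¹ * b * g * ((g : G)⁻¹ * a * g)⁻¹ := by
        calc (b : G) * (a : G)⁻¹ = b * ((a : G)⁻¹ * ((g : G)⁻¹ * a * g)) * ((g : G)⁻¹ * a * g)⁻¹ := by group
          _ = b * ((b : G)⁻¹ * ((g : G)⁻¹ * b * g)) * ((g : G)⁻¹ * a * g)⁻¹ := by rw [e1]
          _ = _ := by group
      conv_lhs => rw [e2]
      group
    have hsurj := Finite.injective_iff_surjective.mp hf
    refine hθ (Subtype.ext (funext fun a => ?_))
    obtain ⟨b, rfl⟩ := hsurj a
    have h1 := congrFun hfix b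
    simp only [twist, hφ] at h1
    show (θ : ↥A → ℂ) (f b) = 1
    rw [hφ]
    simp only [f, map_mul, map_inv, Units.val_mul, h1, Units.inv_mul]
  · intro hg
    funext a
    show (θ : ↥A → ℂ) _ = _
    refine congrArg (θ : ↥A → ℂ) (Subtype.ext ?_)
    show (g : G)⁻¹ * a * g = a
    rw [mul_assoc, h.comm a.2 hg]
    group

/-- `φ` and `θ` are conjugate in the normaliser. -/
def Rel (θ φ : IrrCharacter ↥A) : Prop := ∃ g, twist φ g = (θ : ↥A → ℂ)

theorem SC.card_twist_fiber (h : SC A e) {φ : IrrCharacter ↥A} (hφ : φ ≠ one A) (θ : IrrCharacter ↥A)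
    [Decidable (Rel θ φ)] :
    Nat.card {g : ↥(Subgroup.normalizer (A : Set G)) // twist φ g = (θ : ↥A → ℂ)} =
      if Rel θ φ then Nat.card A else 0 := by
  split
  · rename_i hr
    obtain ⟨g0, hg0⟩ := hr
    symm
    refine Nat.card_congr (Equiv.ofBijective (fun a : ↥A =>
      (⟨g0 * ⟨a, Subgroup.le_normalizer a.2⟩, ?_⟩ :
        {g : ↥(Subgroup.normalizer (A : Set G)) // twist φ g = (θ : ↥A → ℂ)})) ⟨?_, ?_⟩)
    · rw [twist_mul φ g0 _ ((h.twist_eq_self_iff hφ _).mpr a.2)]
      exact hg0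
    · intro a b hab
      have := congrArg Subtype.val hab
      simpa using this
    · rintro ⟨g, hg⟩
      have hmem : ((g0⁻¹ * g : ↥(Subgroup.normalizer (A : Set G))) : G) ∈ A := by
        refine (h.twist_eq_self_iff hφ _).mp ?_
        funext a
        have e1 := congrFun (hg.trans hg0.symm) ⟨(g0 : G) * a * (g0 : G)⁻¹,
          (Subgroup.mem_normalizer_iff.mp g0.2 a).mp a.2⟩
        refine Eq.trans ?_ (e1.trans ?_)
        · refine congrArg (φ : ↥A → ℂ) (Subtype.ext ?_)
          simp only [Subgroup.coe_mul, InvMemClass.coe_inv]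
          group
        · refine congrArg (φ : ↥A → ℂ) (Subtype.ext ?_)
          simp only
          group
      exact ⟨⟨_, hmem⟩, Subtype.ext (Subtype.ext (by simp))⟩
  · rename_i hr
    haveI : IsEmpty {g : ↥(Subgroup.normalizer (A : Set G)) // twist φ g = (θ : ↥A → ℂ)} :=
      ⟨fun g => hr ⟨g.1, g.2⟩⟩
    exact Nat.card_of_isEmpty

theorem SC.card_rel (h : SC A e) {φ : IrrCharacter ↥A} (hφ : φ ≠ one A) [DecidablePred fun θ => Rel θ φ] :
    (Finset.univ.filter fun θ => Rel θ φ).card = e := by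
  classical
  have hsum : Nat.card ↥(Subgroup.normalizer (A : Set G)) =
      ∑ θ : IrrCharacter ↥A, Nat.card {g : ↥(Subgroup.normalizer (A : Set G)) // twist φ g = (θ : ↥A → ℂ)} := by
    rw [← Nat.card_sigma]
    refine Nat.card_congr ?_
    exact ⟨fun g => ⟨⟨twist φ g, twist_irr h φ g⟩, g, rfl⟩, fun p => p.2.1, fun g => rfl,
      fun ⟨θ, g, hg⟩ => by
        have : (⟨twist φ g, twist_irr h φ g⟩ : IrrCharacter ↥A) = θ := Subtype.ext hg
        subst this
        rfl⟩
  rw [h.card_normalizer, Finset.sum_congr rfl fun θ _ => h.card_twist_fiber hφ θ, Finset.sum_ite,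
    Finset.sum_const_zero, add_zero, Finset.sum_const, smul_eq_mul] at hsum
  exact (Nat.eq_of_mul_eq_mul_right Nat.card_pos hsum).symm

theorem SC.rel_self (h : SC A e) {θ : IrrCharacter ↥A} (hθ : θ ≠ one A) : Rel θ θ :=
  ⟨1, (h.twist_eq_self_iff hθ 1).mpr (by simp)⟩

theorem SC.psi_apply [Fintype ↥(Subgroup.normalizer (A : Set G))] (h : SC A e) (φ : IrrCharacter ↥A) (a : ↥A) :
    psi φ (a : G) = (Nat.card A : ℂ)⁻¹ *
      ∑ g : ↥(Subgroup.normalizer (A : Set G)), (1 - twist φ g a) := by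
  classical
  unfold psi indFun
  congr 1
  rw [← Finset.sum_filter_add_sum_filter_not Finset.univ (· ∈ Subgroup.normalizer (A : Set G)),
    Finset.sum_eq_zero (s := Finset.univ.filter fun x => ¬ x ∈ Subgroup.normalizer (A : Set G)) ?_, add_zero,
    Finset.sum_subtype (p := (· ∈ Subgroup.normalizer (A : Set G))) _ (fun x => by simp)]
  · refine Finset.sum_congr rfl fun g _ => ?_
    rw [extendByZero_of_mem _ _ ((Subgroup.mem_normalizer_iff''.mp g.2 a).mp a.2)]
    rfl
  · intro x hx
    by_cases ha : (a : G) = 1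
    · simp only [ha, mul_one, inv_mul_cancel]
      show extendByZero A _ ((1 : ↥A) : G) = 0
      rw [extendByZero_coe]
      simp [one, h.apply_one]
    · refine extendByZero_of_not_mem _ _ fun hm => (Finset.mem_filter.mp hx).2 ?_
      have := h.mem_normalizer (g := x⁻¹) a.2 ha (by simpa using hm)
      simpa using this

theorem SC.gram (h : SC A e) {θ φ : IrrCharacter ↥A} (hθ : θ ≠ one A) (hφ : φ ≠ one A)
    [Decidable (Rel θ φ)] :
    ∑ χ : IrrCharacter G, coef χ θ * coef χ φ = (e : ℤ) + if Rel θ φ then 1 else 0 := by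
  classical
  letI : Fintype ↥(Subgroup.normalizer (A : Set G)) := Fintype.ofFinite _
  have hcf : IsClassFunction G (psi φ) := indFun_isClassFunction _ _
  have key : classInner (psi θ) (psi φ) = (((e : ℤ) + if Rel θ φ then 1 else 0 : ℤ) : ℂ) := by
    rw [show psi θ = indFun A ((one A : ↥A → ℂ) - (θ : ↥A → ℂ)) from rfl,
      frobenius_reciprocity A _ hcf]
    have hval : (fun a : ↥A => psi φ (a : G)) = (Nat.card A : ℂ)⁻¹ •
        ∑ g : ↥(Subgroup.normalizer (A : Set G)), ((one A : ↥A → ℂ) - twist φ g) := by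
      funext a
      rw [h.psi_apply φ a]
      simp [one, Finset.sum_apply]
    rw [hval, classInner_smul_right, classInner_sum_right]
    have hterm : ∀ g : ↥(Subgroup.normalizer (A : Set G)),
        classInner ((one A : ↥A → ℂ) - (θ : ↥A → ℂ)) ((one A : ↥A → ℂ) - twist φ g) =
          1 + if twist φ g = (θ : ↥A → ℂ) then 1 else 0 := by
      intro g
      have h1 : (one A : ↥A → ℂ) ≠ twist φ g := by
        intro hh
        refine hφ (Subtype.ext (funext fun a => ?_))
        have := congrFun hh ⟨(g : G) * a * (g : G)⁻¹, (Subgroup.mem_normalizer_iff.mp g.2 a).mp a.2⟩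
        refine Eq.trans ?_ this.symm
        show (φ : ↥A → ℂ) a = (φ : ↥A → ℂ) _
        refine congrArg (φ : ↥A → ℂ) (Subtype.ext ?_)
        simp only
        group
      rw [classInner_sub_left, classInner_sub_right, classInner_sub_right,
        classInner_irr_self (one A).2, classInner_irr_ne (one A).2 (twist_irr h φ g) h1,
        classInner_irr_ne θ.2 (one A).2 fun hh => hθ (Subtype.ext hh)]
      by_cases heq : twist φ g = (θ : ↥A → ℂ)
      · rw [heq, classInner_irr_self θ.2, if_pos rfl]; ring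
      · rw [classInner_irr_ne θ.2 (twist_irr h φ g) fun hh => heq hh.symm, if_neg heq]; ring
    rw [Finset.sum_congr rfl fun g _ => hterm g, Finset.sum_add_distrib, Finset.sum_const,
      Finset.card_univ, ← Nat.card_eq_fintype_card, Finset.sum_boole, map_inv₀, map_natCast,
      ← Fintype.card_subtype, ← Nat.card_eq_fintype_card, h.card_twist_fiber hφ θ, h.card_normalizer]
    have : (Nat.card A : ℂ) ≠ 0 := Nat.cast_ne_zero.mpr Nat.card_pos.ne'
    split <;> simp <;> field_simp
  rw [classInner_psi_psi] at key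
  exact_mod_cast key

theorem psi_eq_zero {θ : IrrCharacter ↥A} (h : SC A e) {g : G}
    (hg : ∀ a ∈ A, a ≠ 1 → ¬ IsConj g a) : psi θ g = 0 := by
  classical
  unfold psi indFun
  refine mul_eq_zero_of_right _ (Finset.sum_eq_zero fun x _ => ?_)
  by_cases hm : x⁻¹ * g * x ∈ A
  · by_cases h1 : x⁻¹ * g * x = 1
    · rw [h1]
      show extendByZero A _ ((1 : ↥A) : G) = 0
      rw [extendByZero_coe]
      simp [one, h.apply_one]
    · exact absurd (isConj_iff.mpr ⟨x⁻¹, by simp⟩) (hg _ hm h1)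
  · exact extendByZero_of_not_mem _ _ hm

theorem cross (hA : SC A e) (hB : SC B e') (hnc : ∀ g : G, A.map (MulAut.conj g).toMonoidHom ≠ B)
    (θ : IrrCharacter ↥A) (φ : IrrCharacter ↥B) : ∑ χ : IrrCharacter G, coef χ θ * coef χ φ = 0 := by
  have hcf : IsClassFunction G (psi φ) := indFun_isClassFunction _ _
  have key : classInner (psi θ) (psi φ) = 0 := by
    rw [show psi θ = indFun A ((one A : ↥A → ℂ) - (θ : ↥A → ℂ)) from rfl,
      frobenius_reciprocity A _ hcf]
    refine mul_eq_zero_of_right _ (Finset.sum_eq_zero fun a _ => ?_)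
    by_cases h1 : a = 1
    · subst h1
      simp [one, hA.apply_one]
    · show _ * conj (psi φ (a : G)) = 0
      rw [psi_eq_zero hB fun b hb _ hc => ?_]
      · simp
      · obtain ⟨g, hg⟩ := isConj_iff.mp hc
        exact hA.not_conj hB hnc a.2 (fun hh => h1 (Subtype.ext hh)) (g := g) (hg ▸ hb)
  rw [classInner_psi_psi] at key
  exact_mod_cast key

theorem coef_degree_sum (h : SC A e) (θ : IrrCharacter ↥A) :
    ∑ χ : IrrCharacter G, (coef χ θ : ℂ) * (χ : G → ℂ) 1 = 0 := by
  rw [← psi_eq_sum, psi, indFun_apply_one]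
  simp [one, h.apply_one]

/-- Bounds at an inverting involution. -/
theorem SC.abs_inverter (h : SC A e) (χ : IrrCharacter G) {j : G} (hj : orderOf j = 2)
    (hinv : ∀ a ∈ A, j * a * j⁻¹ = a⁻¹) :
    ∃ y : ℤ, (χ : G → ℂ) j = y ∧ y.natAbs ≤ mult χ (one A) := by
  classical
  have hjj := CfsgLib.Involutions.mul_self_eq_one_of_orderOf hj
  have hji := CfsgLib.Involutions.inv_eq_self_of_orderOf hj
  have hjA : j ∉ A := h.orderOf_ne_two hj
  have hconj : ∀ a ∈ A, j * a = a⁻¹ * j := fun a ha => mul_inv_eq_iff_eq_mul.mp (hinv a ha)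
  have hconj' : ∀ a ∈ A, j * a * j = a⁻¹ := fun a ha => by rw [hconj a ha, mul_assoc, hjj, mul_one]
  let H : Subgroup G :=
    { carrier := {x | x ∈ A ∨ x * j ∈ A}
      one_mem' := Or.inl (one_mem A)
      mul_mem' := by
        intro x y hx hy
        rcases hx with hx | hx <;> rcases hy with hy | hy
        · exact Or.inl (mul_mem hx hy)
        · right
          rw [mul_assoc]
          exact mul_mem hx hy
        · right
          have : x * y * j = x * j * (j * y * j) := by
            rw [show x * j * (j * y * j) = x * (j * j) * y * j by group, hjj, mul_one]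
          rw [this, hconj' y hy]
          exact mul_mem hx (inv_mem hy)
        · left
          have : x * y = x * j * (j * (y * j) * j) := by
            rw [show x * j * (j * (y * j) * j) = x * (j * j) * y * (j * j) by group, hjj, mul_one, mul_one]
          rw [this, hconj' _ hy]
          exact mul_mem hx (inv_mem hy)
      inv_mem' := by
        intro x hx
        rcases hx with hx | hx
        · exact Or.inl (inv_mem hx)
        · right
          have : x⁻¹ * j = j * (x * j)⁻¹ * j := by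
            rw [mul_inv_rev, show j * (j⁻¹ * x⁻¹) * j = x⁻¹ * j by group]
          rw [this, hconj' _ (inv_mem hx), inv_inv]
          exact hx }
  have hAmem : ∀ a ∈ A, a ∈ H := fun a ha => Or.inl ha
  have hjmem : ∀ a ∈ A, a * j ∈ H := fun a ha => Or.inr (by rw [mul_assoc, hjj, mul_one]; exact ha)
  have hnot : ∀ a ∈ A, a * j ∉ A := fun a ha hm => hjA ((Subgroup.mul_mem_cancel_left A ha).mp hm)
  let sgn : ↥H →* ℂˣ :=
    { toFun := fun x => if (x : G) ∈ A then 1 else -1
      map_one' := by simp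
      map_mul' := by
        rintro ⟨x, hx⟩ ⟨y, hy⟩
        simp only [Subgroup.coe_mul, MulMemClass.mk_mul_mk]
        by_cases hxA : x ∈ A <;> by_cases hyA : y ∈ A
        · simp [hxA, hyA, mul_mem]
        · simp [hxA, hyA, Subgroup.mul_mem_cancel_left A hxA]
        · simp [hxA, hyA, Subgroup.mul_mem_cancel_right A hyA]
        · have hxj := hx.resolve_left hxA
          have hyj := hy.resolve_left hyA
          have : x * y ∈ A := by
            have e1 : x * y = x * j * (j * (y * j) * j) := by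
              rw [show x * j * (j * (y * j) * j) = x * (j * j) * y * (j * j) by group, hjj, mul_one, mul_one]
            rw [e1, hconj' _ hyj]
            exact mul_mem hxj (inv_mem hyj)
          simp [hxA, hyA, this] }
  letI : Fintype ↥H := Fintype.ofFinite _
  have hjconj : ∀ a ∈ A, (χ : G → ℂ) (a * j) = (χ : G → ℂ) j := by
    intro a ha
    obtain ⟨m, hm⟩ := h.coprime_two ha
    refine (isClassFunction_iff_isConj.mp (isClassFunction_irr χ.2) _ _ (isConj_iff.mpr ⟨a ^ (m + 1), ?_⟩)).symm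
    have hp : a ^ (m + 1) ∈ A := pow_mem ha _
    rw [mul_assoc, show j * (a ^ (m + 1))⁻¹ = (a ^ (m + 1)) * j by
      rw [hconj _ (inv_mem hp), inv_inv], ← mul_assoc, ← pow_add,
      show m + 1 + (m + 1) = (2 * m + 1) + 1 by ring, pow_succ, ← hm, pow_orderOf_eq_one, one_mul]
  let eqv : ↥A ⊕ ↥A ≃ ↥H := Equiv.ofBijective
    (Sum.elim (fun a => ⟨a, hAmem a a.2⟩) (fun a => ⟨(a : G) * j, hjmem a a.2⟩)) ⟨by
      rintro (a | a) (b | b) hab <;> have hv := congrArg Subtype.val hab <;> simp only [Sum.elim_inl, Sum.elim_inr] at hv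
      · exact congrArg Sum.inl (Subtype.ext hv)
      · exact absurd (hv ▸ a.2) (hnot b b.2)
      · exact absurd (hv ▸ b.2) (hnot a a.2)
      · exact congrArg Sum.inr (Subtype.ext (mul_right_cancel hv)), by
      rintro ⟨x, hx | hx⟩
      · exact ⟨Sum.inl ⟨x, hx⟩, rfl⟩
      · exact ⟨Sum.inr ⟨x * j, hx⟩, Subtype.ext (show x * j * j = x by rw [mul_assoc, hjj, mul_one])⟩⟩
  have hres := isCharacter_restrict (isCharacter_of_irr χ.2) H
  obtain ⟨p, hp⟩ := classInner_char_nat hres (isCharacter_of_irr (isIrrCharacter_one (G := ↥H)))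
  obtain ⟨q, hq⟩ := classInner_char_nat hres (isCharacter_of_irr (isIrrCharacter_linear sgn))
  have hA0 := mult_spec χ (one A)
  simp only [classInner] at hp hq hA0
  rw [← eqv.sum_comp, Fintype.sum_sum_type, Nat.card_congr eqv.symm, Nat.card_sum] at hp hq
  have hn : (Nat.card A : ℂ) ≠ 0 := Nat.cast_ne_zero.mpr Nat.card_pos.ne'
  set S : ℂ := ∑ a : ↥A, (χ : G → ℂ) a
  have hS : S = (Nat.card A : ℂ) * mult χ (one A) := by
    rw [← hA0, ← mul_assoc, mul_inv_cancel₀ hn, one_mul]
    simp [S, one]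
  have hl : ∀ a : ↥A, sgn (eqv (Sum.inl a)) = 1 := fun a => if_pos a.2
  have hr : ∀ a : ↥A, sgn (eqv (Sum.inr a)) = -1 := fun a => if_neg (hnot a a.2)
  have hvl : ∀ a : ↥A, (χ : G → ℂ) (eqv (Sum.inl a) : G) = (χ : G → ℂ) a := fun a => rfl
  have hvr : ∀ a : ↥A, (χ : G → ℂ) (eqv (Sum.inr a) : G) = (χ : G → ℂ) j := fun a => hjconj a a.2
  simp only [hl, hr, hvl, hvr, Units.val_one, Units.val_neg, map_one, map_neg, mul_one,
    mul_neg, Finset.sum_neg_distrib, Finset.sum_const, Finset.card_univ, nsmul_eq_mul,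
    ← Nat.card_eq_fintype_card, Nat.cast_add] at hp hq
  change ((Nat.card A : ℂ) + Nat.card A)⁻¹ * (S + _) = _ at hp
  change ((Nat.card A : ℂ) + Nat.card A)⁻¹ * (S + _) = _ at hq
  rw [hS] at hp hq
  field_simp at hp hq
  refine ⟨(p : ℤ) - q, ?_, ?_⟩
  · push_cast
    linear_combination (1 / 2 : ℂ) * hp - (1 / 2 : ℂ) * hq
  · have hpq : ((p + q : ℕ) : ℂ) = (mult χ (one A) : ℂ) := by
      push_cast
      linear_combination -(1 / 2 : ℂ) * hp - (1 / 2 : ℂ) * hq
    have : p + q = mult χ (one A) := by exact_mod_cast hpq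
    omega

end CfsgLib.SuzSC
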