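import Mathlib

/-!
Integer arrays with the Gram matrix `e + [R]` of the induced characters.
-/

set_option autoImplicit false
set_option linter.unusedSectionVars false

namespace CfsgLib.SuzSC

universe u v w

/-- Columns `D · θ` with inner products `e + [R θ φ]`, the classes of `R` having `e` members. -/
structure Arr (ι : Type u) (T : Type v) [Fintype ι] [Fintype T] (D : ι → T → ℤ) (R : T → T → Prop)
    [DecidableRel R] (e k : ℕ) : Prop where
  gram : ∀ θ φ, ∑ χ, D χ θ * D χ φ = (e : ℤ) + if R θ φ then 1 else 0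
  refl : ∀ θ, R θ θ
  cardR : ∀ φ, (Finset.univ.filter fun θ => R θ φ).card = e
  epos : 0 < e
  cardT : Fintype.card T = e * k
  two : 2 ≤ k

variable {ι : Type u} {T : Type v} [Fintype ι] [Fintype T] {D : ι → T → ℤ} {R : T → T → Prop}
  [DecidableRel R] {e k : ℕ}

/-- A column is constant. -/
def Const (D : ι → T → ℤ) (χ : ι) : Prop := ∀ θ φ, D χ θ = D χ φ

theorem Arr.symm (h : Arr ι T D R e k) {θ φ : T} (hR : R θ φ) : R φ θ := by
  have h1 := h.gram θ φ
  have h2 := h.gram φ θ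
  rw [Finset.sum_congr rfl fun χ _ => mul_comm (D χ φ) (D χ θ), h1, if_pos hR] at h2
  by_contra hn
  rw [if_neg hn] at h2
  omega

theorem Arr.sum_sq_diff (h : Arr ι T D R e k) (θ φ : T) :
    ∑ χ, (D χ θ - D χ φ) ^ 2 = 2 - 2 * if R θ φ then 1 else 0 := by
  have e1 : ∀ χ, (D χ θ - D χ φ) ^ 2 = D χ θ * D χ θ + D χ φ * D χ φ - 2 * (D χ θ * D χ φ) := fun χ => by ring
  rw [Finset.sum_congr rfl fun χ _ => e1 χ, Finset.sum_sub_distrib, Finset.sum_add_distrib, ← Finset.mul_sum,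
    h.gram, h.gram, h.gram, if_pos (h.refl θ), if_pos (h.refl φ)]
  ring

theorem Arr.invariant (h : Arr ι T D R e k) {θ φ : T} (hR : R θ φ) (χ : ι) : D χ θ = D χ φ := by
  have h0 : ∑ χ, (D χ θ - D χ φ) ^ 2 = 0 := by rw [h.sum_sq_diff, if_pos hR]; ring
  have := (Finset.sum_eq_zero_iff_of_nonneg fun χ _ => sq_nonneg (D χ θ - D χ φ)).mp h0 χ (Finset.mem_univ _)
  exact sub_eq_zero.mp (pow_eq_zero_iff (two_ne_zero) |>.mp this)

theorem Arr.sum_row_sum (h : Arr ι T D R e k) :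
    ∑ θ : T, ∑ φ : T, (if R θ φ then (1 : ℤ) else 0) = (e : ℤ) * Fintype.card T := by
  rw [Finset.sum_comm]
  have : ∀ φ : T, ∑ θ : T, (if R θ φ then (1 : ℤ) else 0) = e := fun φ => by
    rw [Finset.sum_boole, h.cardR φ]
  rw [Finset.sum_congr rfl fun φ _ => this φ, Finset.sum_const, Finset.card_univ, nsmul_eq_mul]
  ring

theorem Arr.var_lower (h : Arr ι T D R e k) {χ : ι} (hχ : ¬ Const D χ) :
    2 * (e : ℤ) * ((Fintype.card T : ℤ) - e) ≤ ∑ θ : T, ∑ φ : T, (D χ θ - D χ φ) ^ 2 := by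
  classical
  unfold Const at hχ
  push Not at hχ
  obtain ⟨θ₀, φ₀, hne⟩ := hχ
  set S := Finset.univ.filter fun θ => D χ θ = D χ θ₀ with hS
  have ha : e ≤ S.card := by
    rw [← h.cardR θ₀]
    exact Finset.card_le_card fun θ hθ => Finset.mem_filter.mpr
      ⟨Finset.mem_univ _, h.invariant (Finset.mem_filter.mp hθ).2 χ⟩
  have hb : e ≤ Sᶜ.card := by
    rw [← h.cardR φ₀]
    refine Finset.card_le_card fun θ hθ => ?_
    rw [Finset.mem_compl, hS, Finset.mem_filter]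
    exact fun hh => hne (hh.2.symm.trans (h.invariant (Finset.mem_filter.mp hθ).2 χ))
  have hab : S.card + Sᶜ.card = Fintype.card T := Finset.card_add_card_compl S
  have hp : ∀ θ φ, (if (θ ∈ S ↔ φ ∈ S) then (0 : ℤ) else 1) ≤ (D χ θ - D χ φ) ^ 2 := by
    intro θ φ
    split
    · exact sq_nonneg _
    · rename_i hh
      refine Int.one_le_abs (z := (D χ θ - D χ φ) ^ 2) (pow_ne_zero _ (sub_ne_zero.mpr fun e' => hh ?_))
        |>.trans (le_of_eq (abs_of_nonneg (sq_nonneg _)))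
      simp [hS, e']
  have hrow : ∀ θ, ∑ φ : T, (if (θ ∈ S ↔ φ ∈ S) then (0 : ℤ) else 1) =
      if θ ∈ S then (Sᶜ.card : ℤ) else (S.card : ℤ) := by
    intro θ
    by_cases hθ : θ ∈ S
    · rw [if_pos hθ, ← Finset.sum_add_sum_compl S,
        Finset.sum_eq_zero fun φ hφ => if_pos (iff_of_true hθ hφ), zero_add,
        Finset.sum_congr rfl fun φ hφ => if_neg fun hh => (Finset.mem_compl.mp hφ) (hh.mp hθ)]
      simp
    · rw [if_neg hθ, ← Finset.sum_add_sum_compl S,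
        Finset.sum_eq_zero (s := Sᶜ) fun φ hφ => if_pos (iff_of_false hθ (Finset.mem_compl.mp hφ)), add_zero,
        Finset.sum_congr rfl fun φ hφ => if_neg fun hh => hθ (hh.mpr hφ)]
      simp
  refine le_trans ?_ (Finset.sum_le_sum fun θ _ => Finset.sum_le_sum fun φ _ => hp θ φ)
  rw [Finset.sum_congr rfl fun θ _ => hrow θ, ← Finset.sum_add_sum_compl S,
    Finset.sum_congr rfl fun θ hθ => if_pos hθ,
    Finset.sum_congr (s₁ := Sᶜ) rfl fun θ hθ => if_neg (Finset.mem_compl.mp hθ)]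
  simp only [Finset.sum_const, nsmul_eq_mul]
  have ha' : (e : ℤ) ≤ S.card := by exact_mod_cast ha
  have hb' : (e : ℤ) ≤ Sᶜ.card := by exact_mod_cast hb
  have hab' : (S.card : ℤ) + Sᶜ.card = Fintype.card T := by exact_mod_cast hab
  nlinarith [mul_nonneg (sub_nonneg.mpr ha') (sub_nonneg.mpr hb')]

theorem Arr.card_not_const (h : Arr ι T D R e k) [DecidablePred (Const D)] :
    (Finset.univ.filter fun χ => ¬ Const D χ).card ≤ k := by
  have htot : ∑ χ, ∑ θ : T, ∑ φ : T, (D χ θ - D χ φ) ^ 2 =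
      2 * (Fintype.card T : ℤ) * ((Fintype.card T : ℤ) - e) := by
    rw [Finset.sum_comm, Finset.sum_congr rfl fun θ _ => Finset.sum_comm]
    simp only [h.sum_sq_diff, Finset.sum_sub_distrib, ← Finset.mul_sum, h.sum_row_sum]
    simp only [Finset.sum_const, Finset.card_univ, nsmul_eq_mul]
    ring
  have hle : ((Finset.univ.filter fun χ => ¬ Const D χ).card : ℤ) * (2 * e * ((Fintype.card T : ℤ) - e)) ≤
      2 * (Fintype.card T : ℤ) * ((Fintype.card T : ℤ) - e) := by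
    rw [← htot, ← nsmul_eq_mul, ← Finset.sum_const]
    refine (Finset.sum_le_sum fun χ hχ => h.var_lower (Finset.mem_filter.mp hχ).2).trans ?_
    exact Finset.sum_le_sum_of_subset_of_nonneg (Finset.subset_univ _) fun χ _ _ =>
      Finset.sum_nonneg fun θ _ => Finset.sum_nonneg fun φ _ => sq_nonneg _
  rw [h.cardT] at hle
  push_cast at hle
  have h2 : (2 : ℤ) ≤ k := by exact_mod_cast h.two
  have he : (0 : ℤ) < e := by exact_mod_cast h.epos
  have hpos : (0 : ℤ) < 2 * e * (e * k - e) := mul_pos (by omega) (by nlinarith)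
  have : ((Finset.univ.filter fun χ => ¬ Const D χ).card : ℤ) ≤ k := by
    refine le_of_mul_le_mul_right ?_ hpos
    calc _ ≤ _ := hle
      _ = (k : ℤ) * (2 * e * (e * k - e)) := by ring
  exact_mod_cast this

theorem Arr.sum_sq_rowSum (h : Arr ι T D R e k) :
    ∑ χ, (∑ θ, D χ θ) ^ 2 = (Fintype.card T : ℤ) ^ 2 * e + (e : ℤ) * Fintype.card T := by
  have e1 : ∀ χ, (∑ θ, D χ θ) ^ 2 = ∑ θ, ∑ φ, D χ θ * D χ φ := fun χ => by rw [sq, Finset.sum_mul_sum]
  rw [Finset.sum_congr rfl fun χ _ => e1 χ, Finset.sum_comm, Finset.sum_congr rfl fun θ _ => Finset.sum_comm]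
  simp only [h.gram, Finset.sum_add_distrib, h.sum_row_sum, Finset.sum_const, Finset.card_univ, nsmul_eq_mul]
  ring

theorem Arr.const_sq_sum (h : Arr ι T D R e k) (s : Finset ι) (hs : ∀ χ ∈ s, Const D χ) (θ₀ : T) :
    ∑ χ ∈ s, D χ θ₀ ^ 2 ≤ (e : ℤ) := by
  have hle : ∑ χ ∈ s, (∑ θ, D χ θ) ^ 2 ≤ ∑ χ, (∑ θ, D χ θ) ^ 2 :=
    Finset.sum_le_sum_of_subset_of_nonneg (Finset.subset_univ _) fun χ _ _ => sq_nonneg _
  rw [h.sum_sq_rowSum, Finset.sum_congr rfl fun χ hχ => show (∑ θ, D χ θ) ^ 2 =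
      (Fintype.card T : ℤ) ^ 2 * D χ θ₀ ^ 2 by
    rw [Finset.sum_congr rfl fun θ _ => hs χ hχ θ θ₀, Finset.sum_const, Finset.card_univ, nsmul_eq_mul]; ring,
    ← Finset.mul_sum, h.cardT] at hle
  push_cast at hle
  have h2 : (2 : ℤ) ≤ k := by exact_mod_cast h.two
  have he : (0 : ℤ) < e := by exact_mod_cast h.epos
  by_contra hgt
  push Not at hgt
  nlinarith [mul_le_mul_of_nonneg_left (show (e : ℤ) + 1 ≤ ∑ χ ∈ s, D χ θ₀ ^ 2 by omega)
    (sq_nonneg ((e : ℤ) * k)), mul_pos he (show (0 : ℤ) < k by omega),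
    mul_lt_mul_of_pos_left (show (e : ℤ) < e * k by nlinarith) (mul_pos he (show (0 : ℤ) < k by omega))]

variable {T' : Type w} [Fintype T'] {D' : ι → T' → ℤ} {R' : T' → T' → Prop} [DecidableRel R'] {k' : ℕ}

/-- The union of the supports of two orthogonal arrays away from their common part. -/
theorem Arr.card_union (h : Arr ι T D R 4 k) (h' : Arr ι T' D' R' 4 k') (hk : k ≠ k')
    (hcross : ∀ θ φ, ∑ χ, D χ θ * D' χ φ = 0) {o x : ι} (hox : o ≠ x) {s : ℤ} (hs : s = 1 ∨ s = -1)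
    (ho : ∀ θ, D o θ = 1) (ho' : ∀ φ, D' o φ = 1) (hx : ∀ θ, D x θ = s) (hx' : ∀ φ, D' x φ = s)
    (U : Finset ι) (hU : ∀ χ ∈ U, χ ≠ o ∧ χ ≠ x ∧ ((∃ θ, D χ θ ≠ 0) ∨ ∃ φ, D' χ φ ≠ 0)) :
    U.card ≤ k + k' + 2 := by
  classical
  set C := U.filter fun χ => Const D χ ∧ Const D' χ with hC
  have hsplit : U.card ≤ C.card + ((Finset.univ.filter fun χ => ¬ Const D χ).card +
      (Finset.univ.filter fun χ => ¬ Const D' χ).card) := by
    refine le_trans (Finset.card_le_card (t := C ∪ ((Finset.univ.filter fun χ => ¬ Const D χ) ∪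
      (Finset.univ.filter fun χ => ¬ Const D' χ))) fun χ hχ => ?_) ?_
    · simp only [Finset.mem_union, hC, Finset.mem_filter, Finset.mem_univ, true_and]
      tauto
    · exact (Finset.card_union_le _ _).trans (Nat.add_le_add_left (Finset.card_union_le _ _) _)
  have h1 := h.card_not_const
  have h1' := h'.card_not_const
  suffices C.card ≤ 2 by omega
  haveI : Nonempty T := Fintype.card_pos_iff.mp (by rw [h.cardT]; have := h.two; omega)
  obtain ⟨θ₀⟩ := ‹Nonempty T›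
  haveI : Nonempty T' := Fintype.card_pos_iff.mp (by rw [h'.cardT]; have := h'.two; omega)
  obtain ⟨φ₀⟩ := ‹Nonempty T'›
  set a : ι → ℤ := fun χ => ∑ θ, D χ θ with ha
  set b : ι → ℤ := fun χ => ∑ φ, D' χ φ with hb
  set A : ℤ := (Fintype.card T : ℤ) with hA
  set B : ℤ := (Fintype.card T' : ℤ) with hB
  have hsplit2 : ∀ f : ι → ℤ, ∑ χ, f χ = f o + f x + ∑ χ ∈ ({o, x} : Finset ι)ᶜ, f χ := fun f => by
    rw [← Finset.sum_add_sum_compl ({o, x} : Finset ι), Finset.sum_pair hox]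
  have hab : ∑ χ, a χ * b χ = 0 := by
    have e1 : ∀ χ, a χ * b χ = ∑ θ, ∑ φ, D χ θ * D' χ φ := fun χ => Finset.sum_mul_sum _ _ _ _
    rw [Finset.sum_congr rfl fun χ _ => e1 χ, Finset.sum_comm]
    refine Finset.sum_eq_zero fun θ _ => ?_
    rw [Finset.sum_comm]
    exact Finset.sum_eq_zero fun φ _ => hcross θ φ
  have haa : ∑ χ, a χ ^ 2 = A ^ 2 * 4 + 4 * A := by rw [ha, h.sum_sq_rowSum]; norm_num [hA]
  have hbb : ∑ χ, b χ ^ 2 = B ^ 2 * 4 + 4 * B := by rw [hb, h'.sum_sq_rowSum]; norm_num [hB]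
  have hao : a o = A := by simp [ha, hA, ho]
  have hbo : b o = B := by simp [hb, hB, ho']
  have hax : a x = A * s := by simp [ha, hA, hx]
  have hbx : b x = B * s := by simp [hb, hB, hx']
  have hs2 : s * s = 1 := by rcases hs with rfl | rfl <;> norm_num
  set rest := ({o, x} : Finset ι)ᶜ with hrest
  have hab' := hsplit2 (fun χ => a χ * b χ)
  have haa' := hsplit2 (fun χ => a χ ^ 2)
  have hbb' := hsplit2 (fun χ => b χ ^ 2)
  simp only [hab, haa, hbb, hao, hbo, hax, hbx] at hab' haa' hbb'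
  have hQ : ∑ χ ∈ rest, (B * a χ + A * b χ) ^ 2 = 4 * A * B * (A + B) := by
    have e1 : ∀ χ, (B * a χ + A * b χ) ^ 2 = B ^ 2 * a χ ^ 2 + A ^ 2 * b χ ^ 2 + 2 * A * B * (a χ * b χ) :=
      fun χ => by ring
    rw [Finset.sum_congr rfl fun χ _ => e1 χ, Finset.sum_add_distrib, Finset.sum_add_distrib,
      ← Finset.mul_sum, ← Finset.mul_sum, ← Finset.mul_sum]
    linear_combination (-B ^ 2) * haa' - A ^ 2 * hbb' - 2 * A * B * hab' - 4 * A ^ 2 * B ^ 2 * hs2
  have hAk : A = 4 * k := by rw [hA, h.cardT]; norm_num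
  have hBk : B = 4 * k' := by rw [hB, h'.cardT]; norm_num
  have hk2 : (2 : ℤ) ≤ k := by exact_mod_cast h.two
  have hk2' : (2 : ℤ) ≤ k' := by exact_mod_cast h'.two
  have hlt : 4 * A * B * (A + B) < A ^ 2 * B ^ 2 := by
    have hAB : 4 * (A + B) < A * B := by
      rw [hAk, hBk]
      rcases Nat.lt_or_gt_of_ne hk with hlt | hlt
      · have : (k : ℤ) + 1 ≤ k' := by exact_mod_cast hlt
        nlinarith
      · have : (k' : ℤ) + 1 ≤ k := by exact_mod_cast hlt
        nlinarith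
    have h0 : (0 : ℤ) < A * B := by rw [hAk, hBk]; nlinarith
    calc 4 * A * B * (A + B) = A * B * (4 * (A + B)) := by ring
      _ < A * B * (A * B) := mul_lt_mul_of_pos_left hAB h0
      _ = _ := by ring
  have hCrest : C ⊆ rest := fun χ hχ => by
    have := hU χ (Finset.mem_filter.mp hχ).1
    simp [hrest, this.1, this.2.1]
  have hopp : ∀ χ ∈ C, D χ θ₀ = -D' χ φ₀ := by
    intro χ hχ
    obtain ⟨hc, hc'⟩ := (Finset.mem_filter.mp hχ).2
    have hle : (B * a χ + A * b χ) ^ 2 ≤ 4 * A * B * (A + B) :=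
      hQ ▸ Finset.single_le_sum (f := fun χ => (B * a χ + A * b χ) ^ 2) (fun _ _ => sq_nonneg _) (hCrest hχ)
    rw [show a χ = A * D χ θ₀ by simp [ha, hA, Finset.sum_congr rfl fun θ _ => hc θ θ₀],
      show b χ = B * D' χ φ₀ by simp [hb, hB, Finset.sum_congr rfl fun φ _ => hc' φ φ₀]] at hle
    by_contra hne
    have h1 : (1 : ℤ) ≤ (D χ θ₀ + D' χ φ₀) ^ 2 := by
      rcases lt_or_gt_of_ne (show D χ θ₀ + D' χ φ₀ ≠ 0 by omega) with h | h <;> nlinarith
    nlinarith [mul_le_mul_of_nonneg_left h1 (mul_nonneg (sq_nonneg A) (sq_nonneg B))]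
  have hbudget : A ^ 2 * ∑ χ ∈ C, D χ θ₀ ^ 2 ≤ 2 * A ^ 2 + 4 * A := by
    rw [Finset.mul_sum, Finset.sum_congr rfl fun χ hχ => show A ^ 2 * D χ θ₀ ^ 2 = a χ ^ 2 by
      rw [show a χ = A * D χ θ₀ by
        simp [ha, hA, Finset.sum_congr rfl fun θ _ => (Finset.mem_filter.mp hχ).2.1 θ θ₀]]
      ring]
    refine (Finset.sum_le_sum_of_subset_of_nonneg hCrest fun χ _ _ => sq_nonneg _).trans ?_
    linarith [show (A * s) ^ 2 = A ^ 2 by rw [mul_pow, sq s, hs2, mul_one]]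
  have hcard : (C.card : ℤ) ≤ ∑ χ ∈ C, D χ θ₀ ^ 2 := by
    rw [← nsmul_one C.card, ← Finset.sum_const]
    refine Finset.sum_le_sum fun χ hχ => ?_
    have hne : D χ θ₀ ≠ 0 := by
      intro h0
      obtain ⟨hc, hc'⟩ := (Finset.mem_filter.mp hχ).2
      have := hopp χ hχ
      rcases (hU χ (Finset.mem_filter.mp hχ).1).2.2 with ⟨θ, hθ⟩ | ⟨φ, hφ⟩
      · exact hθ (by rw [hc θ θ₀, h0])
      · exact hφ (by rw [hc' φ φ₀]; omega)
    rcases lt_or_gt_of_ne hne with h | h <;> nlinarith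
  by_contra hgt
  push Not at hgt
  have : (3 : ℤ) ≤ C.card := by exact_mod_cast hgt
  nlinarith [mul_le_mul_of_nonneg_left (this.trans hcard) (sq_nonneg A)]

end CfsgLib.SuzSC
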