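import Cfsg.Agent.Lib.SuzSC.Coef
import Cfsg.Agent.Lib.CharTheory.Schur

/-!
Counting pairs of involutions by the class of their product.
-/

set_option autoImplicit false
set_option linter.unusedSectionVars false

namespace CfsgLib.SuzSC

open Cfsg CfsgLib.CharTheory
open scoped ComplexConjugate

universe u

variable {G : Type u} [Group G] [Fintype G] {A : Subgroup G} {e : ℕ}

/-- The involutions `i` for which `i * g` is an involution. -/
noncomputable def pairNum (g : G) : ℕ := Nat.card {i : G // orderOf i = 2 ∧ orderOf (i * g) = 2}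

/-- The number of involutions. -/
noncomputable def invNum (G : Type u) [Group G] : ℕ := Nat.card {i : G // orderOf i = 2}

theorem sum_pairNum : ∑ g : G, pairNum g = invNum G * invNum G := by
  classical
  simp only [pairNum]
  rw [← Nat.card_sigma, invNum, ← Nat.card_prod]
  exact Nat.card_congr
    { toFun := fun p => (⟨p.2.1, p.2.2.1⟩, ⟨p.2.1 * p.1, p.2.2.2⟩)
      invFun := fun p => ⟨(p.1 : G)⁻¹ * p.2, ⟨p.1, p.1.2, by rw [mul_inv_cancel_left]; exact p.2.2⟩⟩
      left_inv := fun ⟨g, i, h1, h2⟩ => by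
        refine Sigma.subtype_ext ?_ rfl
        simp
      right_inv := fun ⟨i, j⟩ => by simp }

theorem pairNum_one : pairNum (1 : G) = invNum G :=
  Nat.card_congr (Equiv.subtypeEquivRight fun i => by simp)

theorem inverts_of_pair {i g : G} (h1 : orderOf i = 2) (h2 : orderOf (i * g) = 2) : i * g * i⁻¹ = g⁻¹ := by
  have hi := CfsgLib.Involutions.mul_self_eq_one_of_orderOf h1
  have hh := CfsgLib.Involutions.mul_self_eq_one_of_orderOf h2
  rw [CfsgLib.Involutions.inv_eq_self_of_orderOf h1]
  exact (inv_eq_of_mul_eq_one_left (by rw [← hh]; group)).symm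

theorem pairNum_le (g : G) : pairNum g ≤ Nat.card (Subgroup.centralizer ({g} : Set G)) := by
  classical
  by_cases hne : Nonempty {i : G // orderOf i = 2 ∧ orderOf (i * g) = 2}
  · obtain ⟨i0, h1, h2⟩ := hne
    refine Nat.card_le_card_of_injective (fun i => ⟨(i : G) * i0, ?_⟩) fun i j hij => ?_
    · rw [Subgroup.mem_centralizer_singleton_iff]
      have e1 := inverts_of_pair i.2.1 i.2.2
      have e0 := inverts_of_pair h1 h2
      apply mul_inv_eq_iff_eq_mul.mp
      calc (i : G) * i0 * g * ((i : G) * i0)⁻¹ = (i : G) * (i0 * g * i0⁻¹) * (i : G)⁻¹ := by group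
        _ = ((i : G) * g * (i : G)⁻¹)⁻¹ := by rw [e0]; group
        _ = g := by rw [e1, inv_inv]
    · exact Subtype.ext (mul_right_cancel (congrArg Subtype.val hij))
  · rw [not_nonempty_iff] at hne
    simp [pairNum]

theorem pairNum_conj (h g : G) : pairNum (h * g * h⁻¹) = pairNum g := by
  refine (Nat.card_congr (Equiv.subtypeEquiv (MulAut.conj h).toEquiv fun i => ?_)).symm
  show _ ↔ orderOf (h * i * h⁻¹) = 2 ∧ orderOf (h * i * h⁻¹ * (h * g * h⁻¹)) = 2
  rw [show h * i * h⁻¹ * (h * g * h⁻¹) = h * (i * g) * h⁻¹ by group,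
    CfsgLib.Involutions.orderOf_conj, CfsgLib.Involutions.orderOf_conj]

theorem pairNum_SC (h : SC A e) {a : G} (ha : a ∈ A) (h1 : a ≠ 1) : pairNum a = Nat.card A := by
  rw [← h.card_inverters ha h1]
  refine Nat.card_congr (Equiv.subtypeEquivRight fun i => ?_)
  constructor
  · rintro ⟨hi, hia⟩
    exact ⟨hi, inverts_of_pair hi hia⟩
  · rintro ⟨hi, hinv⟩
    refine ⟨hi, CfsgLib.Involutions.orderOf_eq_two_iff'.mpr ⟨?_, fun hh => ?_⟩⟩
    · have hii := CfsgLib.Involutions.inv_eq_self_of_orderOf hi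
      calc i * a * (i * a) = i * a * i * a := by group
        _ = i * a * i⁻¹ * a := by rw [hii]
        _ = 1 := by rw [hinv]; group
    · have : a = i⁻¹ := (inv_eq_of_mul_eq_one_right hh).symm
      refine h.orderOf_ne_two ?_ ha
      rw [this, orderOf_inv, hi]

theorem card_class (g : G) [DecidableEq (ConjClasses G)] :
    (Finset.univ.filter fun x => ConjClasses.mk x = ConjClasses.mk g).card *
      Nat.card (Subgroup.centralizer ({g} : Set G)) = Nat.card G := by
  classical
  rw [← card_isConj_mul_card_centralizer g, Nat.card_eq_fintype_card (α := {x // IsConj g x})]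
  congr 1
  symm
  refine Fintype.card_of_subtype _ fun x => ?_
  simp only [Finset.mem_filter, Finset.mem_univ, true_and, ConjClasses.mk_eq_mk_iff_isConj]
  exact isConj_comm

theorem pairs_upper :
    invNum G * invNum G ≤ invNum G + Nat.card G * (Nat.card (ConjClasses G) - 1) := by
  classical
  rw [← sum_pairNum (G := G), ← Finset.sum_fiberwise (g := ConjClasses.mk) (f := pairNum (G := G)),
    ← Finset.add_sum_erase _ _ (Finset.mem_univ (ConjClasses.mk (1 : G)))]
  refine Nat.add_le_add ?_ ?_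
  · rw [show (Finset.univ.filter fun x : G => ConjClasses.mk x = ConjClasses.mk (1 : G)) = {1} by
      ext x; simp [ConjClasses.mk_eq_mk_iff_isConj, isConj_one_left], Finset.sum_singleton, pairNum_one]
  · rw [Nat.card_eq_fintype_card (α := ConjClasses G), ← Finset.card_univ,
      ← Finset.card_erase_of_mem (Finset.mem_univ (ConjClasses.mk (1 : G))), mul_comm, ← smul_eq_mul,
      ← Finset.sum_const]
    refine Finset.sum_le_sum fun C _ => ?_
    obtain ⟨g, rfl⟩ := ConjClasses.exists_rep C
    rw [← card_class g, Finset.sum_congr rfl fun x hx => show pairNum x = pairNum g by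
      obtain ⟨k, rfl⟩ := isConj_iff.mp (ConjClasses.mk_eq_mk_iff_isConj.mp (Finset.mem_filter.mp hx).2).symm
      exact pairNum_conj k g, Finset.sum_const, smul_eq_mul]
    exact Nat.mul_le_mul_left _ (pairNum_le g)

theorem pairs_lower (S : Finset (ConjClasses G))
    (hS : ∀ C ∈ S, ∃ g, g ≠ 1 ∧ ConjClasses.mk g = C ∧ pairNum g = Nat.card (Subgroup.centralizer ({g} : Set G))) :
    invNum G + Nat.card G * S.card ≤ invNum G * invNum G := by
  classical
  rw [← sum_pairNum (G := G), ← Finset.sum_fiberwise (g := ConjClasses.mk) (f := pairNum (G := G))]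
  have hnot : ConjClasses.mk (1 : G) ∉ S := by
    intro hm
    obtain ⟨g, hg, hgC, -⟩ := hS _ hm
    exact hg (isConj_one_left.mp (ConjClasses.mk_eq_mk_iff_isConj.mp hgC))
  refine le_trans ?_ (Finset.sum_le_sum_of_subset (Finset.subset_univ (insert (ConjClasses.mk (1 : G)) S)))
  rw [Finset.sum_insert hnot]
  refine Nat.add_le_add ?_ ?_
  · rw [show (Finset.univ.filter fun x : G => ConjClasses.mk x = ConjClasses.mk (1 : G)) = {1} by
      ext x; simp [ConjClasses.mk_eq_mk_iff_isConj, isConj_one_left], Finset.sum_singleton, pairNum_one]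
  · rw [mul_comm, ← smul_eq_mul, ← Finset.sum_const]
    refine Finset.sum_le_sum fun C hC => ?_
    obtain ⟨g, -, rfl, hg⟩ := hS C hC
    rw [← card_class g, Finset.sum_congr rfl fun x hx => show pairNum x = pairNum g by
      obtain ⟨k, rfl⟩ := isConj_iff.mp (ConjClasses.mk_eq_mk_iff_isConj.mp (Finset.mem_filter.mp hx).2).symm
      exact pairNum_conj k g, Finset.sum_const, smul_eq_mul, hg]

/-- The class multiplication count. -/
theorem triple_formula (u u' a : G) :
    (Nat.card {g : G // IsConj a (g * u * g⁻¹ * u')} : ℂ) *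
        Nat.card (Subgroup.centralizer ({a} : Set G)) =
      (Nat.card G : ℂ) * ∑ χ : IrrCharacter G,
        (χ : G → ℂ) u * (χ : G → ℂ) u' * conj ((χ : G → ℂ) a) / (χ : G → ℂ) 1 := by
  classical
  have e1 : ∀ χ : IrrCharacter G, (Nat.card G : ℂ) *
      ((χ : G → ℂ) u * (χ : G → ℂ) u' * conj ((χ : G → ℂ) a) / (χ : G → ℂ) 1) =
      ∑ g : G, (χ : G → ℂ) (g * u * g⁻¹ * u') * conj ((χ : G → ℂ) a) := fun χ => by
    rw [← Finset.sum_mul, sum_conj_mul_char χ.2]
    ring
  rw [Finset.mul_sum, Finset.sum_congr rfl fun χ _ => e1 χ, Finset.sum_comm,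
    Finset.sum_congr rfl fun g _ => show ∑ χ : IrrCharacter G,
        (χ : G → ℂ) (g * u * g⁻¹ * u') * conj ((χ : G → ℂ) a) =
      if IsConj a (g * u * g⁻¹ * u') then (Nat.card (Subgroup.centralizer ({a} : Set G)) : ℂ) else 0 by
    rw [sum_irr_mul_conj]
    by_cases hc : IsConj a (g * u * g⁻¹ * u')
    · rw [if_pos hc.symm, if_pos hc]
      congr 1
      have h1 := card_isConj_mul_card_centralizer a
      have h2 := card_isConj_mul_card_centralizer (g * u * g⁻¹ * u')
      rw [Nat.card_congr (Equiv.subtypeEquivRight fun x =>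
        (⟨fun hx => hc.trans hx, fun hx => hc.symm.trans hx⟩ : IsConj (g * u * g⁻¹ * u') x ↔ IsConj a x)),
        ← h1] at h2
      haveI : Nonempty {x : G // IsConj a x} := ⟨⟨a, IsConj.refl a⟩⟩
      exact Nat.eq_of_mul_eq_mul_left Nat.card_pos h2
    · rw [if_neg fun h => hc h.symm, if_neg hc], ← Finset.sum_filter, Finset.sum_const, nsmul_eq_mul,
    Nat.card_eq_fintype_card, Fintype.card_subtype]

/-- One class of involutions: the count for `u' = u`. -/
theorem triple_count (h : SC A e) {u a : G} (hu : orderOf u = 2)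
    (hone : ∀ i : G, orderOf i = 2 → IsConj u i) (ha : a ∈ A) (h1 : a ≠ 1) :
    Nat.card {g : G // IsConj a (g * u * g⁻¹ * u)} =
      Nat.card (Subgroup.centralizer ({u} : Set G)) * Nat.card (Subgroup.centralizer ({u} : Set G)) := by
  classical
  set c := Nat.card (Subgroup.centralizer ({u} : Set G)) with hc
  -- `g ↦ g * u * g⁻¹` has fibres of size `c`
  have hfib : Nat.card {g : G // IsConj a (g * u * g⁻¹ * u)} =
      Nat.card {i : G // orderOf i = 2 ∧ IsConj a (i * u)} * c := by
    rw [hc, ← Nat.card_prod]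
    have hsel : ∀ i : {i : G // orderOf i = 2 ∧ IsConj a (i * u)}, ∃ g : G, g * u * g⁻¹ = i :=
      fun i => isConj_iff.mp (hone i i.2.1)
    choose sel hsel using hsel
    refine (Nat.card_congr (Equiv.ofBijective
      (fun p : {i : G // orderOf i = 2 ∧ IsConj a (i * u)} × Subgroup.centralizer ({u} : Set G) =>
        (⟨sel p.1 * p.2, ?_⟩ : {g : G // IsConj a (g * u * g⁻¹ * u)})) ⟨?_, ?_⟩)).symm
    · have hcz := Subgroup.mem_centralizer_singleton_iff.mp p.2.2
      rw [show sel p.1 * p.2 * u * (sel p.1 * p.2)⁻¹ = sel p.1 * ((p.2 : G) * u * (p.2 : G)⁻¹) * (sel p.1)⁻¹ by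
        group, hcz, mul_inv_cancel_right, hsel]
      exact p.1.2.2
    · rintro ⟨i, z⟩ ⟨i', z'⟩ heq
      have hv : sel i * (z : G) = sel i' * z' := congrArg Subtype.val heq
      have hii : i = i' := by
        apply Subtype.ext
        have hz := Subgroup.mem_centralizer_singleton_iff.mp z.2
        have hz' := Subgroup.mem_centralizer_singleton_iff.mp z'.2
        calc (i : G) = sel i * ((z : G) * u * (z : G)⁻¹) * (sel i)⁻¹ := by
              rw [hz, mul_inv_cancel_right, hsel]
          _ = sel i * z * u * (sel i * z)⁻¹ := by group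
          _ = sel i' * z' * u * (sel i' * z')⁻¹ := by rw [hv]
          _ = sel i' * ((z' : G) * u * (z' : G)⁻¹) * (sel i')⁻¹ := by group
          _ = i' := by rw [hz', mul_inv_cancel_right, hsel]
      subst hii
      exact Prod.ext rfl (Subtype.ext (mul_left_cancel hv))
    · rintro ⟨g, hg⟩
      set i : {i : G // orderOf i = 2 ∧ IsConj a (i * u)} :=
        ⟨g * u * g⁻¹, by rw [CfsgLib.Involutions.orderOf_conj, hu], hg⟩
      refine ⟨(i, ⟨(sel i)⁻¹ * g, ?_⟩), Subtype.ext (mul_inv_cancel_left _ _)⟩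
      rw [Subgroup.mem_centralizer_singleton_iff]
      apply mul_inv_eq_iff_eq_mul.mp
      calc (sel i)⁻¹ * g * u * ((sel i)⁻¹ * g)⁻¹ = (sel i)⁻¹ * (g * u * g⁻¹) * sel i := by group
        _ = (sel i)⁻¹ * (sel i * u * (sel i)⁻¹) * sel i := by rw [hsel]
        _ = u := by group
  -- pairs with product conjugate to `a`
  have hper : ∀ j : {j : G // orderOf j = 2},
      Nat.card {i : G // orderOf i = 2 ∧ IsConj a (i * j)} =
        Nat.card {i : G // orderOf i = 2 ∧ IsConj a (i * u)} := by
    intro j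
    obtain ⟨g, hg⟩ := isConj_iff.mp (hone j j.2)
    refine (Nat.card_congr (Equiv.subtypeEquiv (MulAut.conj g).toEquiv fun i => ?_)).symm
    show _ ↔ orderOf (g * i * g⁻¹) = 2 ∧ IsConj a (g * i * g⁻¹ * (j : G))
    rw [CfsgLib.Involutions.orderOf_conj, ← hg, show g * i * g⁻¹ * (g * u * g⁻¹) = g * (i * u) * g⁻¹ by group]
    exact and_congr_right fun _ =>
      ⟨fun hh => hh.trans (isConj_iff.mpr ⟨g, rfl⟩), fun hh => hh.trans (isConj_iff.mpr ⟨g, rfl⟩).symm⟩
  have hpairs : invNum G * Nat.card {i : G // orderOf i = 2 ∧ IsConj a (i * u)} = Nat.card G := by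
    rw [invNum, Nat.card_eq_fintype_card (α := {i : G // orderOf i = 2}), ← Finset.card_univ, ← smul_eq_mul,
      ← Finset.sum_const, Finset.sum_congr rfl fun j _ => (hper j).symm, ← Nat.card_sigma]
    have h2 : ∑ x ∈ Finset.univ.filter (fun x => ConjClasses.mk x = ConjClasses.mk a), pairNum x = Nat.card G := by
      rw [Finset.sum_congr rfl fun x hx => show pairNum x = pairNum a by
        obtain ⟨k, rfl⟩ := isConj_iff.mp (ConjClasses.mk_eq_mk_iff_isConj.mp (Finset.mem_filter.mp hx).2).symm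
        exact pairNum_conj k a, Finset.sum_const, smul_eq_mul, pairNum_SC h ha h1]
      have := card_class a
      rwa [h.cent a ha h1] at this
    rw [← h2]
    simp only [pairNum]
    rw [Finset.sum_subtype (p := fun x => ConjClasses.mk x = ConjClasses.mk a) _ (fun x => by simp),
      ← Nat.card_sigma]
    refine Nat.card_congr
      { toFun := fun p => ⟨⟨(p.2 : G) * (p.1 : G), ?_⟩, ⟨p.2, p.2.2.1, ?_⟩⟩
        invFun := fun p => ⟨⟨(p.2 : G) * (p.1 : G), p.2.2.2⟩, ⟨p.2, p.2.2.1, ?_⟩⟩
        left_inv := fun p => ?_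
        right_inv := fun p => ?_ }
    · exact (ConjClasses.mk_eq_mk_iff_isConj.mpr p.2.2.2).symm
    · rw [← mul_assoc, CfsgLib.Involutions.mul_self_eq_one_of_orderOf p.2.2.1, one_mul]
      exact p.1.2
    · rw [← mul_assoc, CfsgLib.Involutions.mul_self_eq_one_of_orderOf p.2.2.1, one_mul]
      exact (ConjClasses.mk_eq_mk_iff_isConj.mp p.1.2).symm
    · obtain ⟨⟨j, hj⟩, ⟨i, hi, hij⟩⟩ := p
      refine Sigma.subtype_ext (Subtype.ext ?_) rfl
      simp [← mul_assoc, CfsgLib.Involutions.mul_self_eq_one_of_orderOf hi]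
    · obtain ⟨⟨x, hx⟩, ⟨i, hi, hix⟩⟩ := p
      refine Sigma.subtype_ext (Subtype.ext ?_) rfl
      simp [← mul_assoc, CfsgLib.Involutions.mul_self_eq_one_of_orderOf hi]
  have hIc : invNum G * c = Nat.card G := by
    rw [← card_isConj_mul_card_centralizer u]
    refine congrArg₂ _ (Nat.card_congr (Equiv.subtypeEquivRight fun i => ⟨fun hi => hone i hi, fun hi => ?_⟩)) rfl
    obtain ⟨g, rfl⟩ := isConj_iff.mp hi
    rw [CfsgLib.Involutions.orderOf_conj, hu]
  haveI : Nonempty {i : G // orderOf i = 2} := ⟨⟨u, hu⟩⟩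
  have hIpos : 0 < invNum G := Nat.card_pos
  rw [hfib, Nat.eq_of_mul_eq_mul_left hIpos (hpairs.trans hIc.symm)]

theorem card_inv_mul (u : G) (hu : orderOf u = 2) (hone : ∀ i : G, orderOf i = 2 → IsConj u i) :
    invNum G * Nat.card (Subgroup.centralizer ({u} : Set G)) = Nat.card G := by
  rw [← card_isConj_mul_card_centralizer u]
  refine congrArg₂ _ (Nat.card_congr (Equiv.subtypeEquivRight fun i => ⟨fun hi => hone i hi, fun hi => ?_⟩)) rfl
  obtain ⟨g, rfl⟩ := isConj_iff.mp hi
  rw [CfsgLib.Involutions.orderOf_conj, hu]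

end CfsgLib.SuzSC
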