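import Cfsg.Agent.Lib.SuzSC.Values
import Cfsg.Agent.Lib.SuzSC.Arith
import Cfsg.Agent.Lib.CharTheory.InvolutionCount

/-!
The involution centralisers are two-groups.
-/

set_option autoImplicit false
set_option linter.unusedSectionVars false

namespace CfsgLib.SuzSC

open Cfsg CfsgLib.CharTheory

universe u

variable {G : Type u} [Group G] [Fintype G] {A A₁ A₂ A₃ : Subgroup G} {e : ℕ}

/-- An element of prime order dividing `|A|` is conjugate into `A`. -/
theorem SC.prime_conj (h : SC A e) {p : ℕ} (hp : p.Prime) {z : G} (hz : orderOf z = p) (hd : p ∣ Nat.card A) :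
    ∃ g : G, g * z * g⁻¹ ∈ A := by
  classical
  haveI : Fact p.Prime := ⟨hp⟩
  obtain ⟨⟨a, ha⟩, hao⟩ := exists_prime_orderOf_dvd_card' (G := A) p hd
  rw [Subgroup.orderOf_mk] at hao
  have hPa : IsPGroup p (Subgroup.zpowers a) := IsPGroup.of_card (n := 1) (by rw [Nat.card_zpowers, hao, pow_one])
  have hPz : IsPGroup p (Subgroup.zpowers z) := IsPGroup.of_card (n := 1) (by rw [Nat.card_zpowers, hz, pow_one])
  obtain ⟨S, hS⟩ := hPa.exists_le_sylow
  obtain ⟨T, hT⟩ := hPz.exists_le_sylow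
  obtain ⟨g, hg⟩ := MulAction.exists_smul_eq G T S
  have ha1 : a ≠ 1 := fun e => hp.ne_one (by rw [← hao, e, orderOf_one])
  haveI : Nontrivial (S : Subgroup G) :=
    ⟨⟨⟨a, hS (Subgroup.mem_zpowers a)⟩, 1, fun hh => ha1 (congrArg Subtype.val hh)⟩⟩
  haveI := S.2.center_nontrivial
  obtain ⟨w, hw1⟩ := exists_ne (1 : Subgroup.center (S : Subgroup G))
  have hwA : ((w : (S : Subgroup G)) : G) ∈ A :=
    h.mem_of_comm ha ha1 (congrArg Subtype.val
      (Subgroup.mem_center_iff.mp w.2 ⟨a, hS (Subgroup.mem_zpowers a)⟩)).symm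
  have hw1' : ((w : (S : Subgroup G)) : G) ≠ 1 := fun hh => hw1 (Subtype.ext (Subtype.ext hh))
  have hgS : g * z * g⁻¹ ∈ (S : Subgroup G) := by
    rw [← hg]
    exact Subgroup.smul_mem_pointwise_smul _ (MulAut.conj g) _ (hT (Subgroup.mem_zpowers z))
  exact ⟨g, h.mem_of_comm hwA hw1' (congrArg Subtype.val (Subgroup.mem_center_iff.mp w.2 ⟨_, hgS⟩))⟩

/-- No prime divides both `|A|` and the order of the centraliser of an involution. -/
theorem SC.coprime_cent (h : SC A e) {u : G} (hu : orderOf u = 2) :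
    (Nat.card (Subgroup.centralizer ({u} : Set G))).Coprime (Nat.card A) := by
  by_contra hco
  obtain ⟨p, hp, h1, h2⟩ := Nat.Prime.not_coprime_iff_dvd.mp hco
  haveI : Fact p.Prime := ⟨hp⟩
  obtain ⟨⟨z, hzc⟩, hz⟩ := exists_prime_orderOf_dvd_card' (G := Subgroup.centralizer ({u} : Set G)) p h1
  rw [Subgroup.orderOf_mk] at hz
  obtain ⟨g, hg⟩ := h.prime_conj hp hz h2
  have hne : g * z * g⁻¹ ≠ 1 := fun e => by
    rw [conj_eq_one_iff] at e
    exact hp.ne_one (by rw [← hz, e, orderOf_one])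
  refine h.orderOf_ne_two (j := g * u * g⁻¹) (by rw [CfsgLib.Involutions.orderOf_conj, hu])
    (h.mem_of_comm hg hne ?_)
  have hc := Subgroup.mem_centralizer_singleton_iff.mp hzc
  calc g * u * g⁻¹ * (g * z * g⁻¹) = g * (u * z) * g⁻¹ := by group
    _ = g * z * g⁻¹ * (g * u * g⁻¹) := by rw [← hc]; group

theorem deg_dvd_card (χ : IrrCharacter G) : deg χ ∣ Nat.card G := by
  obtain ⟨χ, n, ρ, hρ, rfl⟩ := χ
  have h1 : ((deg ⟨ρ.character, n, ρ, hρ, rfl⟩ : ℕ) : ℂ) = (Module.finrank ℂ (Fin n → ℂ) : ℂ) := by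
    rw [← deg_spec, ← ρ.char_one]
  rw [show deg (⟨ρ.character, n, ρ, hρ, rfl⟩ : IrrCharacter G) = Module.finrank ℂ (Fin n → ℂ) by
    exact_mod_cast h1]
  exact finrank_dvd_card ρ

theorem charDegree_eq_deg (χ : IrrCharacter G) : charDegree (χ : G → ℂ) = deg χ := by
  have h1 := (charDegree_spec' χ.2).1
  rw [deg_spec] at h1
  exact_mod_cast h1.symm

theorem sum_deg_sq : ∑ χ : IrrCharacter G, (deg χ : ℤ) ^ 2 = (Nat.card G : ℤ) := by
  have h := sum_irr_degree_sq (G := G)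
  simp only [deg_spec] at h
  exact_mod_cast h

/-- The arithmetic of the branch where `X` vanishes on `A₂`, with `n₁ = 5`. -/
theorem small_five {x n2 n3 : ℕ} {y ε : ℤ} (hodd : Odd n3) (hε : ε = 1 ∨ ε = -1) (hx : 2 ≤ x) (h9 : 9 ≤ n2) (h9' : 9 ≤ n3)
    (hd2 : n2 ∣ x) (hd3 : (n3 : ℤ) ∣ (x : ℤ) + ε) (hy : y.natAbs * n2 ≤ x)
    (hineq : 7 * ((x : ℤ) - y) ^ 2 < 5 * ((x : ℤ) * ((x : ℤ) + ε))) : False := by
  have h1 : y.natAbs * 9 ≤ x := le_trans (Nat.mul_le_mul_left _ h9) hy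
  have h2 : 8 * (x : ℤ) ≤ 9 * ((x : ℤ) - y) := by omega
  have h3 : (64 : ℤ) * (x : ℤ) ^ 2 ≤ 81 * ((x : ℤ) - y) ^ 2 := by
    nlinarith [mul_le_mul h2 h2 (by positivity) (by omega)]
  have h4 : x ≤ 9 := by
    rcases hε with r | r <;> subst r <;> nlinarith
  have hx9 : x = 9 := by have := Nat.le_of_dvd (by omega) hd2; omega
  subst hx9
  obtain ⟨q, hq⟩ := hd3
  have hqp : 0 < q := by rcases hε with r | r <;> subst r <;> nlinarith
  obtain ⟨i, rfl⟩ := hodd
  have hle : ((2 * i + 1 : ℕ) : ℤ) ≤ 9 + ε :=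
    Int.le_of_dvd (by rcases hε with r | r <;> omega) ⟨q, by exact_mod_cast hq⟩
  rcases hε with r | r <;> subst r <;> push_cast at hq hle
  · have : i = 4 := by omega
    subst this
    omega
  · omega

/-- The arithmetic of the branch where `X` vanishes on `A₂`, with `n₁ = 7` and `n₂ = 9`. -/
theorem small_seven {x n3 k3 c h : ℕ} {y ε : ℤ} (hε : ε = 1 ∨ ε = -1) (hx : 2 ≤ x) (hn3 : n3 = 4 * k3 + 1)
    (hk : 2 ≤ k3) (hcop : (9 : ℕ).Coprime n3) (hd1 : (7 : ℤ) ∣ (x : ℤ) - ε) (hd2 : 9 ∣ x)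
    (hd3 : (n3 : ℤ) ∣ (x : ℤ) + ε) (hy : y.natAbs * 9 ≤ x)
    (hineq : ((5 + k3 : ℕ) : ℤ) * ((x : ℤ) - y) ^ 2 < 7 * ((x : ℤ) * ((x : ℤ) + ε)))
    (hsq : 3 * ((x : ℤ) + ε) ^ 2 ≤ 3 * (7 * 9 * (n3 : ℤ)) ^ 2) (hcN : c.Coprime 9)
    (hch : c * h ≤ 3 * (7 * 9 * n3)) (hh : 0 < h)
    (heq : (9 * (n3 : ℤ) * h) * ((x : ℤ) - y) ^ 2 = c * x * ((x : ℤ) + ε)) : False := by
  have h2 : 8 * (x : ℤ) ≤ 9 * ((x : ℤ) - y) := by omega
  have h3 : (64 : ℤ) * (x : ℤ) ^ 2 ≤ 81 * ((x : ℤ) - y) ^ 2 := by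
    nlinarith [mul_le_mul h2 h2 (by positivity) (by omega)]
  have hk3 : k3 ≠ 2 := by
    rintro rfl
    subst hn3
    norm_num at hcop
  by_cases h4 : 4 ≤ k3
  · have h5 : ((5 + k3 : ℕ) : ℤ) * (64 * (x : ℤ) ^ 2) ≤ ((5 + k3 : ℕ) : ℤ) * (81 * ((x : ℤ) - y) ^ 2) :=
      mul_le_mul_of_nonneg_left h3 (by positivity)
    have h6 : x ≤ 62 := by
      have : (9 : ℤ) ≤ ((5 + k3 : ℕ) : ℤ) := by exact_mod_cast (by omega : 9 ≤ 5 + k3)
      have h7 := mul_le_mul_of_nonneg_right this (show (0 : ℤ) ≤ 64 * (x : ℤ) ^ 2 by positivity)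
      rcases hε with r | r <;> subst r <;> nlinarith
    obtain ⟨q, hq⟩ := hd3
    have hqp : 0 < q := by rcases hε with r | r <;> subst r <;> nlinarith
    have hle : (n3 : ℤ) ≤ (x : ℤ) + ε := by nlinarith
    obtain ⟨m, rfl⟩ := hd2
    have : m ≤ 6 := by omega
    interval_cases m <;> rcases hε with r | r <;> subst r <;> norm_num at hd1 <;> norm_num at hq hle h5 hineq ⊢ <;>
      (try omega) <;> (have hk4 : k3 ≤ 16 := by omega) <;> interval_cases k3 <;> subst hn3 <;>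
      first | omega | (norm_num at hcop; done) | (norm_num at hineq h5; done) | (norm_num at hineq h5; nlinarith) | nlinarith
  · have hk' : k3 = 3 := by omega
    subst hk'
    subst hn3
    norm_num at hineq hd3 hsq hch heq
    have hx820 : x ≤ 820 := by
      rcases hε with r | r <;> subst r <;> nlinarith
    obtain ⟨m, rfl⟩ := hd2
    have hm : m ≤ 91 := by omega
    have hh5 : h ≤ 5 := by
      by_contra hgt
      have e1 : (117 * (h : ℤ) ^ 2) * ((9 * (m : ℕ) : ℕ) - y : ℤ) ^ 2 =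
          ((c * h : ℕ) : ℤ) * ((9 * m : ℕ) : ℤ) * (((9 * m : ℕ) : ℤ) + ε) := by
        push_cast at heq ⊢
        linear_combination (h : ℤ) * heq
      have e2 : ((c * h : ℕ) : ℤ) ≤ 2457 := by exact_mod_cast hch
      have e3 : (0 : ℤ) ≤ ((9 * m : ℕ) : ℤ) * (((9 * m : ℕ) : ℤ) + ε) :=
        mul_nonneg (by positivity) (by rcases hε with r | r <;> subst r <;> omega)
      have e4 := mul_le_mul_of_nonneg_right e2 e3
      have e5 : (36 : ℤ) ≤ (h : ℤ) ^ 2 := by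
        have : (6 : ℤ) ≤ h := by exact_mod_cast (by omega : 6 ≤ h)
        nlinarith
      have e6 := mul_le_mul_of_nonneg_right e5 (sq_nonneg (((9 * m : ℕ) : ℤ) - y))
      have e7 : (9 : ℤ) * ((9 * m : ℕ) : ℤ) ≤ ((9 * m : ℕ) : ℤ) ^ 2 := by
        rw [sq]
        exact mul_le_mul_of_nonneg_right (by omega) (by positivity)
      have e8 : (9 : ℤ) ≤ ((9 * m : ℕ) : ℤ) := by omega
      rcases hε with r | r <;> subst r <;> push_cast at * <;> nlinarith
    have hm2 : (m = 88 ∧ ε = 1) ∨ (m = 3 ∧ ε = -1) := by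
      rcases hε with r | r <;> subst r <;> omega
    rcases hm2 with ⟨rfl, rfl⟩ | ⟨rfl, rfl⟩
    · have hyu : y ≤ 88 := by omega
      have hyl : 51 ≤ y := by
        norm_num at hineq
        by_contra hlt
        nlinarith [mul_le_mul (show (742 : ℤ) ≤ 792 - y by omega) (show (742 : ℤ) ≤ 792 - y by omega)
          (by norm_num) (by omega)]
      interval_cases y <;> interval_cases h <;> norm_num at heq <;> omega
    · have hyu : y ≤ 3 := by omega
      have hyl : -3 ≤ y := by omega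
      interval_cases y <;> norm_num at hineq <;> interval_cases h <;> norm_num at heq <;>
        (first | omega | (have hc' : c % 3 = 0 := by omega
                          have h3c : 3 ∣ c := Nat.dvd_of_mod_eq_zero hc'
                          have h31 := Nat.dvd_gcd h3c (show 3 ∣ 9 by norm_num)
                          rw [hcN.gcd_eq_one] at h31
                          norm_num at h31))

/-- The hypotheses, with a family for `A₁`. -/
structure Ctx (A₁ A₂ A₃ : Subgroup G) : Prop where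
  h₁ : SC A₁ 2
  h₂ : SC A₂ 4
  h₃ : SC A₃ 4
  nine₂ : 9 ≤ Nat.card A₂
  nine₃ : 9 ≤ Nat.card A₃
  nc₁₂ : ∀ g : G, A₁.map (MulAut.conj g).toMonoidHom ≠ A₂
  nc₁₃ : ∀ g : G, A₁.map (MulAut.conj g).toMonoidHom ≠ A₃
  nc₂₃ : ∀ g : G, A₂.map (MulAut.conj g).toMonoidHom ≠ A₃
  ord : Nat.card G ≤ 3 * (Nat.card A₁ * Nat.card A₂ * Nat.card A₃) ^ 2

theorem map_symm {A B : Subgroup G} (h : ∀ g : G, A.map (MulAut.conj g).toMonoidHom ≠ B) :
    ∀ g : G, B.map (MulAut.conj g).toMonoidHom ≠ A := by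
  intro g hg
  refine h g⁻¹ (Subgroup.ext fun x => ?_)
  rw [← hg]
  simp only [Subgroup.mem_map, MulEquiv.coe_toMonoidHom, MulAut.conj_apply]
  constructor
  · rintro ⟨-, ⟨b, hb, rfl⟩, rfl⟩
    rwa [show g⁻¹ * (g * b * g⁻¹) * g⁻¹⁻¹ = b by group]
  · exact fun hx => ⟨_, ⟨x, hx, rfl⟩, by group⟩

theorem Ctx.swap (C : Ctx A₁ A₂ A₃) : Ctx A₁ A₃ A₂ :=
  ⟨C.h₁, C.h₃, C.h₂, C.nine₃, C.nine₂, C.nc₁₃, C.nc₁₂, map_symm C.nc₂₃, C.ord.trans (by rw [mul_right_comm])⟩

/-- All classes meeting one of the three subgroups. -/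
noncomputable def allClasses (A₁ A₂ A₃ : Subgroup G) : Finset (ConjClasses G) :=
  letI := Classical.decEq (ConjClasses G)
  classesOf A₁ ∪ (classesOf A₂ ∪ classesOf A₃)

theorem Ctx.card_allClasses (C : Ctx A₁ A₂ A₃) :
    (allClasses A₁ A₂ A₃).card = (classesOf A₁).card + (classesOf A₂).card + (classesOf A₃).card := by
  letI := Classical.decEq (ConjClasses G)
  have h12 := C.h₁.disjoint_classesOf C.h₂ C.nc₁₂
  have h13 := C.h₁.disjoint_classesOf C.h₃ C.nc₁₃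
  have h23 := C.h₂.disjoint_classesOf C.h₃ C.nc₂₃
  unfold allClasses
  rw [Finset.card_union_of_disjoint (Finset.disjoint_union_right.mpr ⟨h12, h13⟩),
    Finset.card_union_of_disjoint h23, add_assoc]

theorem Ctx.mem_allClasses (C : Ctx A₁ A₂ A₃) {K : ConjClasses G} (hK : K ∈ allClasses A₁ A₂ A₃) :
    ∃ g, g ≠ 1 ∧ ConjClasses.mk g = K ∧ pairNum g = Nat.card (Subgroup.centralizer ({g} : Set G)) ∧
      Odd (orderOf g) ∧ orderOf g ∣ Nat.card A₁ * Nat.card A₂ * Nat.card A₃ := by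
  classical
  simp only [allClasses, Finset.mem_union, mem_classesOf] at hK
  rcases hK with ⟨a, ha, h1, r⟩ | ⟨a, ha, h1, r⟩ | ⟨a, ha, h1, r⟩
  · exact ⟨a, h1, r, by rw [pairNum_SC C.h₁ ha h1, C.h₁.cent a ha h1], C.h₁.coprime_two ha,
      dvd_mul_of_dvd_left (dvd_mul_of_dvd_left (A₁.orderOf_dvd_natCard ha) _) _⟩
  · exact ⟨a, h1, r, by rw [pairNum_SC C.h₂ ha h1, C.h₂.cent a ha h1], C.h₂.coprime_two ha,
      dvd_mul_of_dvd_left (dvd_mul_of_dvd_right (A₂.orderOf_dvd_natCard ha) _) _⟩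
  · exact ⟨a, h1, r, by rw [pairNum_SC C.h₃ ha h1, C.h₃.cent a ha h1], C.h₃.coprime_two ha,
      dvd_mul_of_dvd_right (A₃.orderOf_dvd_natCard ha) _⟩

/-- Five further classes if an odd element commutes with an involution. -/
theorem Ctx.classes_of_odd (C : Ctx A₁ A₂ A₃) {u z : G} {p : ℕ} (hu : orderOf u = 2) (hp : p.Prime) (hp2 : p ≠ 2)
    (hz : orderOf z = p) (hc : z * u = u * z)
    (hpN : ¬ p ∣ Nat.card A₁ * Nat.card A₂ * Nat.card A₃) :
    (allClasses A₁ A₂ A₃).card + 5 ≤ Nat.card (ConjClasses G) := by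
  classical
  obtain ⟨v, hv⟩ := C.h₂.exists_order_four
  have hodd := hp.odd_of_ne_two hp2
  have hzu : orderOf (z * u) = p * 2 := by
    rw [(show Commute z u from hc).orderOf_mul_eq_mul_orderOf_of_coprime (by rw [hz, hu]; exact hodd.coprime_two_right),
      hz, hu]
  let f : Fin 5 → G := ![1, u, v, z, z * u]
  have ho : ∀ i, orderOf (f i) = ![1, 2, 4, p, p * 2] i := by
    intro i
    fin_cases i <;> simp [f, hu, hv, hz, hzu]
  have h3 : 3 ≤ p := by have := hp.two_le; omega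
  have hinj : Function.Injective fun i => ConjClasses.mk (f i) := by
    intro i j hij
    obtain ⟨g, hg⟩ := isConj_iff.mp (ConjClasses.mk_eq_mk_iff_isConj.mp hij)
    have e : orderOf (f i) = orderOf (f j) := by rw [← hg, CfsgLib.Involutions.orderOf_conj]
    rw [ho, ho] at e
    obtain ⟨r, rfl⟩ := hodd
    fin_cases i <;> fin_cases j <;> simp at e ⊢ <;> omega
  have hdisj : Disjoint (allClasses A₁ A₂ A₃) (Finset.univ.image fun i => ConjClasses.mk (f i)) := by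
    rw [Finset.disjoint_right]
    intro K hK hK'
    obtain ⟨i, -, rfl⟩ := Finset.mem_image.mp hK
    obtain ⟨g, hg1, hgK, -, hgodd, hgd⟩ := C.mem_allClasses hK'
    obtain ⟨k, hk⟩ := isConj_iff.mp (ConjClasses.mk_eq_mk_iff_isConj.mp hgK)
    have e : orderOf g = orderOf (f i) := by rw [← hk, CfsgLib.Involutions.orderOf_conj]
    rw [ho] at e
    fin_cases i <;> simp at e
    · exact hg1 e
    · rw [e] at hgodd; exact absurd hgodd (by decide)
    · rw [e] at hgodd; exact absurd hgodd (by decide)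
    · exact hpN (e ▸ hgd)
    · rw [e] at hgodd; exact absurd hgodd (by simp [Nat.odd_mul])
  calc (allClasses A₁ A₂ A₃).card + 5
      = (allClasses A₁ A₂ A₃ ∪ Finset.univ.image fun i => ConjClasses.mk (f i)).card := by
        rw [Finset.card_union_of_disjoint hdisj, Finset.card_image_of_injective _ hinj, Finset.card_univ,
          Fintype.card_fin]
    _ ≤ _ := by rw [Nat.card_eq_fintype_card]; exact Finset.card_le_univ _

variable [Fintype ↥A₁] [Fintype ↥A₂] [Fintype ↥A₃] [Fintype (NT A₁)] [Fintype (NT A₂)] [Fintype (NT A₃)]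
  {X : IrrCharacter G} {ε : ℤ} {L : Finset (IrrCharacter G)}

theorem cross_rowSum {A B : Subgroup G} [Fintype ↥A] [Fintype ↥B] [Fintype (NT A)] [Fintype (NT B)] {ea eb : ℕ}
    (hA : SC A ea) (hB : SC B eb) (hnc : ∀ g : G, A.map (MulAut.conj g).toMonoidHom ≠ B) :
    ∑ χ : IrrCharacter G, (∑ θ, D A χ θ) * (∑ φ, D B χ φ) = 0 := by
  rw [Finset.sum_congr rfl fun χ _ => Finset.sum_mul_sum _ _ _ _, Finset.sum_comm]
  refine Finset.sum_eq_zero fun θ _ => ?_
  rw [Finset.sum_comm]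
  exact Finset.sum_eq_zero fun φ _ => cross hA hB hnc θ.1 φ.1

theorem split_sum [DecidableEq (IrrCharacter G)] {A : Subgroup G} [Fintype ↥A] (F : Fam A X ε L)
    (f : IrrCharacter G → ℤ) :
    ∑ χ, f χ = f (oneG G) + f X + ∑ χ ∈ L, f χ + ∑ χ ∈ (insert (oneG G) (insert X L))ᶜ, f χ := by
  rw [← Finset.sum_add_sum_compl (insert (oneG G) (insert X L)),
    Finset.sum_insert (by simp [F.neX.symm, F.notO]), Finset.sum_insert F.notX]
  ring

/-- The budget of the row sums when `X` vanishes on `A₂`. -/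
theorem Fam.budget (F : Fam A₁ X ε L) (C : Ctx A₁ A₂ A₃) {c₃ : ℤ}
    (hX₂ : ∀ φ, D A₂ X φ = 0) (hL₂ : ∀ Q ∈ L, ∀ φ, D A₂ Q φ = ε)
    (hX₃ : ∀ φ, D A₃ X φ = c₃) (hL₃ : ∀ Q ∈ L, ∀ φ, D A₃ Q φ = c₃ + ε) (hc : c₃ = -ε ∨ c₃ = 0) :
    c₃ = -ε ∧ L.card ≤ 3 ∧ (L.card = 3 → (classesOf A₂).card = 2) := by
  classical
  have a2 := C.h₂.arr (by have := C.nine₂; omega)
  have a3 := C.h₃.arr (by have := C.nine₃; omega)
  set P : ℤ := (Fintype.card (NT A₂) : ℤ) with hP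
  set Q' : ℤ := (Fintype.card (NT A₃) : ℤ) with hQ'
  set a : IrrCharacter G → ℤ := fun χ => ∑ θ, D A₂ χ θ with ha
  set b : IrrCharacter G → ℤ := fun χ => ∑ θ, D A₃ χ θ with hb
  have hε2 : ε * ε = 1 := by rcases F.sgn with r | r <;> subst r <;> norm_num
  have ao : a (oneG G) = P := by
    simp only [ha, hP, show ∀ θ : NT A₂, D A₂ (oneG G) θ = 1 from fun θ => coef_principal θ.2]; simp
  have bo : b (oneG G) = Q' := by
    simp only [hb, hQ', show ∀ θ : NT A₃, D A₃ (oneG G) θ = 1 from fun θ => coef_principal θ.2]; simp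
  have aX : a X = 0 := by simp [ha, hX₂]
  have bX : b X = Q' * c₃ := by simp [hb, hQ', hX₃]
  have aL : ∀ χ ∈ L, a χ = P * ε := fun χ hχ => by simp [ha, hP, hL₂ χ hχ]
  have bL : ∀ χ ∈ L, b χ = Q' * (c₃ + ε) := fun χ hχ => by simp [hb, hQ', hL₃ χ hχ]
  have sA := split_sum F fun χ => a χ ^ 2
  have sB := split_sum F fun χ => b χ ^ 2
  have sAB := split_sum F fun χ => a χ * b χ
  have tA : ∑ χ, a χ ^ 2 = P ^ 2 * 4 + 4 * P := by rw [ha, a2.sum_sq_rowSum]; norm_num [hP]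
  have tB : ∑ χ, b χ ^ 2 = Q' ^ 2 * 4 + 4 * Q' := by rw [hb, a3.sum_sq_rowSum]; norm_num [hQ']
  have tAB : ∑ χ, a χ * b χ = 0 := cross_rowSum C.h₂ C.h₃ C.nc₂₃
  simp only [tA, ao, aX] at sA
  simp only [tB, bo, bX] at sB
  simp only [tAB, ao, bo, aX, bX] at sAB
  rw [Finset.sum_congr (s₁ := L) rfl fun χ hχ => by rw [aL χ hχ], Finset.sum_const, nsmul_eq_mul] at sA
  rw [Finset.sum_congr (s₁ := L) rfl fun χ hχ => by rw [bL χ hχ], Finset.sum_const, nsmul_eq_mul] at sB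
  rw [Finset.sum_congr (s₁ := L) rfl fun χ hχ => by rw [aL χ hχ, bL χ hχ], Finset.sum_const, nsmul_eq_mul] at sAB
  have hcs := Finset.sum_mul_sq_le_sq_mul_sq (insert (oneG G) (insert X L))ᶜ a b
  have hA0 : (0 : ℤ) ≤ ∑ χ ∈ (insert (oneG G) (insert X L))ᶜ, a χ ^ 2 := Finset.sum_nonneg fun _ _ => sq_nonneg _
  set RA := ∑ χ ∈ (insert (oneG G) (insert X L))ᶜ, a χ ^ 2
  set RB := ∑ χ ∈ (insert (oneG G) (insert X L))ᶜ, b χ ^ 2
  set RAB := ∑ χ ∈ (insert (oneG G) (insert X L))ᶜ, a χ * b χ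
  set l : ℤ := (L.card : ℤ) with hl
  have hP8 : P = 4 * ((classesOf A₂).card : ℤ) := by rw [hP, a2.cardT]; norm_num
  have hQ8 : Q' = 4 * ((classesOf A₃).card : ℤ) := by rw [hQ', a3.cardT]; norm_num
  have hk2 : (2 : ℤ) ≤ (classesOf A₂).card := by exact_mod_cast a2.two
  have hk3 : (2 : ℤ) ≤ (classesOf A₃).card := by exact_mod_cast a3.two
  have hl2 : 2 ≤ L.card := F.cardL ▸ C.h₁.two_le_k (by have := C.h₁.five; omega)
  have hl2' : (2 : ℤ) ≤ l := by rw [hl]; exact_mod_cast hl2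
  have eA : RA = (3 - l) * P ^ 2 + 4 * P := by linear_combination -sA + (-l * P ^ 2) * hε2
  rcases hc with rfl | rfl
  · refine ⟨rfl, ?_⟩
    have eB : RB = 2 * Q' ^ 2 + 4 * Q' := by linear_combination -sB + (-Q' ^ 2) * hε2
    have eAB : RAB = -(P * Q') := by linear_combination -sAB
    have hle3 : L.card ≤ 3 := by
      by_contra hgt
      have : (4 : ℤ) ≤ l := by rw [hl]; exact_mod_cast (by omega : 4 ≤ L.card)
      rw [eA] at hA0
      have h1 := mul_le_mul_of_nonneg_right this (sq_nonneg P)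
      nlinarith
    refine ⟨hle3, fun h3 => ?_⟩
    have hl3 : l = 3 := by rw [hl, h3]; norm_num
    rw [eA, eB, eAB, hl3, hP8, hQ8] at hcs
    by_contra hne
    have hk23 : (3 : ℤ) ≤ (classesOf A₂).card := by
      have := a2.two
      exact_mod_cast (by omega : 3 ≤ (classesOf A₂).card)
    obtain ⟨i, hi⟩ : ∃ i : ℤ, i = ((classesOf A₂).card : ℤ) := ⟨_, rfl⟩
    obtain ⟨j, hj⟩ : ∃ j : ℤ, j = ((classesOf A₃).card : ℤ) := ⟨_, rfl⟩
    rw [← hi, ← hj] at hcs
    rw [← hi] at hk23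
    rw [← hj] at hk3
    have hij : (0 : ℤ) < i * j := by positivity
    have h8 : i * j ≤ 2 * j + 1 := by
      refine le_of_mul_le_mul_left ?_ (mul_pos (show (0 : ℤ) < 256 by norm_num) hij)
      nlinarith
    nlinarith [mul_le_mul_of_nonneg_right hk23 (show (0 : ℤ) ≤ j by omega)]
  · exfalso
    have eB : RB = (3 - l) * Q' ^ 2 + 4 * Q' := by linear_combination -sB + (-l * Q' ^ 2) * hε2
    have eAB : RAB = -(P * Q') * (1 + l) := by linear_combination -sAB + (-l * P * Q') * hε2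
    rw [eA, eB, eAB] at hcs
    have hP0 : 8 ≤ P := by rw [hP8]; omega
    have hQ0 : 8 ≤ Q' := by rw [hQ8]; omega
    have b1 : (3 - l) * P ^ 2 + 4 * P ≤ P ^ 2 + 4 * P := by nlinarith [mul_le_mul_of_nonneg_right hl2' (sq_nonneg P)]
    have b2 : (3 - l) * Q' ^ 2 + 4 * Q' ≤ 2 * Q' ^ 2 := by
      nlinarith [mul_le_mul_of_nonneg_right hl2' (sq_nonneg Q')]
    have b3 : P ^ 2 + 4 * P ≤ 2 * P ^ 2 := by nlinarith
    have h1 : ((3 - l) * P ^ 2 + 4 * P) * ((3 - l) * Q' ^ 2 + 4 * Q') ≤ (2 * P ^ 2) * (2 * Q' ^ 2) := by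
      rcases le_or_gt 0 ((3 - l) * Q' ^ 2 + 4 * Q') with h0 | h0
      · exact mul_le_mul (b1.trans b3) b2 h0 (by positivity)
      · rw [eA] at hA0
        nlinarith [mul_nonpos_of_nonneg_of_nonpos hA0 h0.le,
          mul_nonneg (sq_nonneg P) (sq_nonneg Q')]
    have h2 : (9 : ℤ) ≤ (1 + l) ^ 2 := by nlinarith
    have h3 := mul_le_mul_of_nonneg_left h2 (mul_nonneg (sq_nonneg P) (sq_nonneg Q'))
    have h4 : 0 < P ^ 2 * Q' ^ 2 := by positivity
    nlinarith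

/-- The common setting: one class of involutions, the order equation, and the count of pairs. -/
structure Data (A₁ A₂ A₃ : Subgroup G) (x : ℕ) (ε y : ℤ) (c h : ℕ) : Prop where
  hx : 2 ≤ x
  cpos : 0 < c
  hpos : 0 < h
  card : Nat.card G = Nat.card A₁ * Nat.card A₂ * Nat.card A₃ * c * h
  inv : invNum G = Nat.card A₁ * Nat.card A₂ * Nat.card A₃ * h
  cop : c.Coprime (Nat.card A₁ * Nat.card A₂ * Nat.card A₃)
  xdvd : x ∣ Nat.card G
  eq : (Nat.card A₂ * Nat.card A₃ * h : ℤ) * ((x : ℤ) - y) ^ 2 = c * x * ((x : ℤ) + ε)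
  lo : c * ((classesOf A₁).card + (classesOf A₂).card + (classesOf A₃).card) + 1 ≤ invNum G
  hi : invNum G ≤ c * (Nat.card (ConjClasses G) - 1) + 1
  d1 : (Nat.card A₁ : ℤ) ∣ (x : ℤ) - ε

theorem Fam.data (F : Fam A₁ X ε L) (C : Ctx A₁ A₂ A₃) [IsSimpleGroup G] (hG : ¬ IsMulCommutative G)
    {u : G} (hu : orderOf u = 2) {y : ℤ} (hy : (X : G → ℂ) u = y)
    (hone : ∀ i : G, orderOf i = 2 → IsConj u i) :
    ∃ h, Data A₁ A₂ A₃ (deg X) ε y (Nat.card (Subgroup.centralizer ({u} : Set G))) h := by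
  classical
  set c := Nat.card (Subgroup.centralizer ({u} : Set G)) with hc
  have hcpos : 0 < c := Nat.card_pos
  have h12 := C.h₁.coprime_of_not_conj C.h₂ C.nc₁₂
  have h13 := C.h₁.coprime_of_not_conj C.h₃ C.nc₁₃
  have h23 := C.h₂.coprime_of_not_conj C.h₃ C.nc₂₃
  set N := Nat.card A₁ * Nat.card A₂ * Nat.card A₃ with hN
  have hNG : N ∣ Nat.card G :=
    (Nat.Coprime.mul_left h13 h23).mul_dvd_of_dvd_of_dvd
      (h12.mul_dvd_of_dvd_of_dvd A₁.card_subgroup_dvd_card A₂.card_subgroup_dvd_card) A₃.card_subgroup_dvd_card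
  have hcop : c.Coprime N :=
    Nat.Coprime.mul_right (Nat.Coprime.mul_right (C.h₁.coprime_cent hu) (C.h₂.coprime_cent hu))
      (C.h₃.coprime_cent hu)
  have hIc := card_inv_mul u hu hone
  rw [← hc] at hIc
  obtain ⟨h, hh⟩ : N ∣ invNum G := hcop.symm.dvd_of_dvd_mul_right (hIc ▸ hNG)
  have hIpos : 0 < invNum G := by
    haveI : Nonempty {i : G // orderOf i = 2} := ⟨⟨u, hu⟩⟩
    exact Nat.card_pos
  have hcard : Nat.card G = N * c * h := by rw [← hIc, hh]; ring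
  have hkey := F.order_eq C.h₁ hG hu hone hy
  rw [← hc, hcard] at hkey
  obtain ⟨y', b, hy', hyb, hb⟩ : ∃ (y' : ℤ) (b : ℕ), (X : G → ℂ) u = y' ∧ y'.natAbs ≤ b ∧
      (deg X : ℤ) = (Nat.card A₁ : ℤ) * b - ((Nat.card A₁ : ℤ) - 1) * ε := by
    obtain ⟨j, hj, -, -, hinv⟩ := C.h₁.exists_inverter
    obtain ⟨y', b, r1, r2, r3⟩ := value_at_inverter C.h₁ X F.dX hj hinv
    exact ⟨y', b, (isClassFunction_iff_isConj.mp (isClassFunction_irr X.2) _ _ (hone j hj)).trans r1, r2, r3⟩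
  refine ⟨h, two_le_deg hG F.neX, hcpos, ?_, hcard, hh, hcop, deg_dvd_card X, ?_, ?_, ?_, ?_⟩
  · rcases Nat.eq_zero_or_pos h with r | r
    · rw [hh, r, mul_zero] at hIpos; omega
    · exact r
  · have h0 : ((Nat.card A₁ : ℤ) * c) ≠ 0 := by
      have := Nat.card_pos (α := A₁)
      positivity
    apply mul_left_cancel₀ h0
    push_cast [hN] at hkey
    linear_combination hkey
  · have hl := pairs_lower (allClasses A₁ A₂ A₃) fun K hK => by
      obtain ⟨g, g1, g2, g3, -, -⟩ := C.mem_allClasses hK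
      exact ⟨g, g1, g2, g3⟩
    rw [C.card_allClasses, ← hIc] at hl
    have hl' : invNum G * (c * ((classesOf A₁).card + (classesOf A₂).card + (classesOf A₃).card) + 1) ≤
        invNum G * invNum G := by
      refine le_trans (le_of_eq ?_) hl
      ring
    exact Nat.le_of_mul_le_mul_left hl' hIpos
  · have hl := pairs_upper (G := G)
    rw [← hIc] at hl
    have hl' : invNum G * invNum G ≤ invNum G * (c * (Nat.card (ConjClasses G) - 1) + 1) :=
      le_trans hl (le_of_eq (by ring))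
    exact Nat.le_of_mul_le_mul_left hl' hIpos
  · exact ⟨(b : ℤ) - ε, by linear_combination hb⟩

/-- The case in which `X` vanishes on `A₂` does not occur. -/
theorem Fam.no_small (F : Fam A₁ X ε L) (C : Ctx A₁ A₂ A₃) [IsSimpleGroup G] (hG : ¬ IsMulCommutative G)
    {u : G} (hu : orderOf u = 2) (hone : ∀ i : G, orderOf i = 2 → IsConj u i)
    (hX₂ : ∀ φ, D A₂ X φ = 0) (hL₂ : ∀ Q ∈ L, ∀ φ, D A₂ Q φ = ε) : False := by
  classical
  obtain ⟨c₃, hX₃, hL₃, hc⟩ := F.on_other C.h₁ C.h₃ C.nine₃ C.nc₁₃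
  obtain ⟨rfl, hl3, hl3'⟩ := F.budget C hX₂ hL₂ hX₃ hL₃ (hc.imp id And.left)
  have hcf := isClassFunction_iff_isConj.mp (isClassFunction_irr X.2)
  obtain ⟨j, hj, -, -, hinv⟩ := C.h₂.exists_inverter
  obtain ⟨y, b, hy, hyb, hb⟩ := value_at_inverter C.h₂ X hX₂ hj hinv
  obtain ⟨j', hj', -, -, hinv'⟩ := C.h₃.exists_inverter
  obtain ⟨y', b', -, -, hb'⟩ := value_at_inverter C.h₃ X hX₃ hj' hinv'
  obtain ⟨h, hD⟩ := F.data C hG hu ((hcf _ _ (hone j hj)).trans hy) hone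
  have hn1 := C.h₁.card_classesOf
  have hn2 := C.h₂.card_classesOf
  have hn3 := C.h₃.card_classesOf
  rw [← F.cardL] at hn1
  have hl2 : 2 ≤ L.card := F.cardL ▸ C.h₁.two_le_k (by have := C.h₁.five; omega)
  have hk2 := C.h₂.two_le_k (by have := C.nine₂; omega)
  have hk3 := C.h₃.two_le_k (by have := C.nine₃; omega)
  have hlo := hD.lo
  rw [← F.cardL] at hlo
  have h23 := C.h₂.coprime_of_not_conj C.h₃ C.nc₂₃
  set x := deg X with hx
  set k2 := (classesOf A₂).card with hk2'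
  set k3 := (classesOf A₃).card with hk3'
  set c := Nat.card (Subgroup.centralizer ({u} : Set G)) with hcdef
  have hkne : k2 ≠ k3 := by
    intro e
    rw [e] at hn2
    rw [show Nat.card A₃ = Nat.card A₂ by omega, Nat.coprime_self] at h23
    have := C.nine₂
    omega
  have hd2 : Nat.card A₂ ∣ x := by
    rw [← Int.natCast_dvd_natCast]
    exact ⟨b, by linear_combination hb⟩
  have hd3 : (Nat.card A₃ : ℤ) ∣ (x : ℤ) + ε := ⟨(b' : ℤ) + ε, by linear_combination hb'⟩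
  have hy2 : y.natAbs * Nat.card A₂ ≤ x := by
    have : (x : ℤ) = (Nat.card A₂ : ℤ) * b := by linear_combination hb
    have e : x = Nat.card A₂ * b := by exact_mod_cast this
    rw [e, mul_comm]
    exact Nat.mul_le_mul_left _ hyb
  -- the pair count against the order equation
  have hne : (x : ℤ) - y ≠ 0 := by
    have := hD.hx
    have h9 : y.natAbs * 9 ≤ x := le_trans (Nat.mul_le_mul_left _ C.nine₂) hy2
    omega
  have hineq : ((L.card + k2 + k3 : ℕ) : ℤ) * ((x : ℤ) - y) ^ 2 <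
      (Nat.card A₁ : ℤ) * ((x : ℤ) * ((x : ℤ) + ε)) := by
    have hlt : ((c : ℤ) * ((L.card + k2 + k3 : ℕ) : ℤ)) * ((x : ℤ) - y) ^ 2 <
        ((Nat.card A₁ * Nat.card A₂ * Nat.card A₃ * h : ℕ) : ℤ) * ((x : ℤ) - y) ^ 2 := by
      refine mul_lt_mul_of_pos_right ?_ (by positivity)
      rw [← hD.inv]
      exact_mod_cast (by omega : c * (L.card + k2 + k3) < invNum G)
    have he := hD.eq
    push_cast at hlt
    refine lt_of_mul_lt_mul_left (a := (c : ℤ)) ?_ (by positivity)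
    push_cast
    nlinarith [congrArg (fun t : ℤ => (Nat.card A₁ : ℤ) * t) he]
  rcases Nat.lt_or_ge L.card 3 with hl | hl
  · have hn : Nat.card A₁ = 5 := by omega
    refine small_five (y := y) C.h₃.odd F.sgn hD.hx C.nine₂ C.nine₃ hd2 hd3 hy2 (lt_of_le_of_lt ?_ (hn ▸ hineq))
    refine mul_le_mul_of_nonneg_right ?_ (sq_nonneg _)
    exact_mod_cast (by omega : 7 ≤ L.card + k2 + k3)
  · have hL3 : L.card = 3 := by omega
    have hk22 := hl3' hL3
    have hn : Nat.card A₁ = 7 := by omega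
    have hn' : Nat.card A₂ = 9 := by omega
    have heq := hD.eq
    rw [hn'] at heq
    have hsq : 3 * ((x : ℤ) + ε) ^ 2 ≤ 3 * (7 * 9 * (Nat.card A₃ : ℤ)) ^ 2 := by
      have h1 : ∑ Q ∈ L, (deg Q : ℤ) ^ 2 ≤ ∑ χ : IrrCharacter G, (deg χ : ℤ) ^ 2 :=
        Finset.sum_le_sum_of_subset_of_nonneg (Finset.subset_univ _) fun _ _ _ => sq_nonneg _
      rw [sum_deg_sq, Finset.sum_congr rfl fun Q hQ => by rw [F.degL Q hQ], Finset.sum_const, hL3,
        nsmul_eq_mul] at h1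
      have h2 : (Nat.card G : ℤ) ≤ 3 * (((Nat.card A₁ * Nat.card A₂ * Nat.card A₃ : ℕ)) : ℤ) ^ 2 := by
        exact_mod_cast C.ord
      rw [hn, hn'] at h2
      push_cast at h1 h2
      linarith
    refine small_seven (k3 := k3) (c := c) (h := h) (y := y) (n3 := Nat.card A₃) F.sgn hD.hx (by omega) hk3
      (hn' ▸ h23) (by have := hD.d1; rwa [hn] at this) (hn' ▸ hd2) hd3 (hn' ▸ hy2) ?_ hsq
      (hn' ▸ (hD.cop.coprime_dvd_right (dvd_mul_of_dvd_left (dvd_mul_left _ _) _))) ?_ hD.hpos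
      (by exact_mod_cast heq)
    · refine lt_of_le_of_lt (le_of_eq ?_) (hn ▸ hineq)
      rw [hL3, hk22]
    · have h1 := C.ord
      rw [hD.card, hn, hn'] at h1
      refine Nat.le_of_mul_le_mul_left ?_ (show 0 < 7 * 9 * Nat.card A₃ by have := C.nine₃; omega)
      refine le_trans (le_of_eq ?_) (h1.trans (le_of_eq ?_)) <;> ring

/-- Every involution centraliser is a two-group. -/
theorem Fam.cent_two (F : Fam A₁ X ε L) (C : Ctx A₁ A₂ A₃) [IsSimpleGroup G] (hG : ¬ IsMulCommutative G)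
    (hlt : (classesOf A₂).card < (classesOf A₃).card) {u : G} (hu : orderOf u = 2)
    (hone : ∀ i : G, orderOf i = 2 → IsConj u i)
    (hX₂ : ∀ φ, D A₂ X φ = -ε) (hL₂ : ∀ Q ∈ L, ∀ φ, D A₂ Q φ = 0)
    (hX₃ : ∀ φ, D A₃ X φ = -ε) (hL₃ : ∀ Q ∈ L, ∀ φ, D A₃ Q φ = 0) :
    IsPGroup 2 (Subgroup.centralizer ({u} : Set G)) := by
  classical
  have hcf := isClassFunction_iff_isConj.mp (isClassFunction_irr X.2)
  obtain ⟨j, hj, -, -, hinv⟩ := C.h₃.exists_inverter
  obtain ⟨y, b, hy, hyb, hb⟩ := value_at_inverter C.h₃ X hX₃ hj hinv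
  obtain ⟨j', hj', -, -, hinv'⟩ := C.h₂.exists_inverter
  obtain ⟨y', b', -, -, hb'⟩ := value_at_inverter C.h₂ X hX₂ hj' hinv'
  obtain ⟨h, hD⟩ := F.data C hG hu ((hcf _ _ (hone j hj)).trans hy) hone
  set c := Nat.card (Subgroup.centralizer ({u} : Set G)) with hcdef
  have h12 := C.h₁.coprime_of_not_conj C.h₂ C.nc₁₂
  have h13 := C.h₁.coprime_of_not_conj C.h₃ C.nc₁₃
  have h23 := C.h₂.coprime_of_not_conj C.h₃ C.nc₂₃
  set o := oneG G with ho
  set k1 := (classesOf A₁).card with hk1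
  set k2 := (classesOf A₂).card with hk2
  set k3 := (classesOf A₃).card with hk3
  set x := deg X with hx
  set N := Nat.card A₁ * Nat.card A₂ * Nat.card A₃ with hN
  set rest := (insert o (insert X L))ᶜ with hrest
  set U := rest.filter fun χ => (∃ θ, D A₂ χ θ ≠ 0) ∨ ∃ φ, D A₃ χ φ ≠ 0 with hU
  set E := rest.filter fun χ => ¬ ((∃ θ, D A₂ χ θ ≠ 0) ∨ ∃ φ, D A₃ χ φ ≠ 0) with hE
  have hmem : ∀ χ ∈ rest, χ ≠ o ∧ χ ≠ X ∧ χ ∉ L := fun χ hχ => by
    simpa [hrest, not_or] using hχ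
  have hUcard : U.card ≤ k2 + k3 + 2 := by
    refine Arr.card_union (C.h₂.arr (by have := C.nine₂; omega)) (C.h₃.arr (by have := C.nine₃; omega))
      hlt.ne (fun θ φ => cross C.h₂ C.h₃ C.nc₂₃ θ.1 φ.1) (o := o) (x := X) F.neX.symm (s := -ε)
      (by rcases F.sgn with r | r <;> subst r <;> simp) (fun θ => coef_principal θ.2)
      (fun θ => coef_principal θ.2) hX₂ hX₃ U fun χ hχ => ?_
    obtain ⟨hr, hor⟩ := Finset.mem_filter.mp hχ
    exact ⟨(hmem χ hr).1, (hmem χ hr).2.1, hor⟩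
  -- the further characters have degree a multiple of `N`
  have hEdeg : ∀ χ ∈ E, N ∣ deg χ := by
    intro χ hχ
    obtain ⟨hr, hno⟩ := Finset.mem_filter.mp hχ
    push Not at hno
    obtain ⟨h1, h2, h3⟩ := hmem χ hr
    have e1 := C.h₁.deg_eq χ
    have e2 := C.h₂.deg_eq χ
    have e3 := C.h₃.deg_eq χ
    rw [Finset.sum_eq_zero fun θ _ => F.D_other h1 h2 h3 θ, sub_zero] at e1
    rw [Finset.sum_eq_zero fun θ _ => hno.1 θ, sub_zero] at e2
    rw [Finset.sum_eq_zero fun θ _ => hno.2 θ, sub_zero] at e3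
    have d1 : Nat.card A₁ ∣ deg χ := ⟨_, by exact_mod_cast e1⟩
    have d2 : Nat.card A₂ ∣ deg χ := ⟨_, by exact_mod_cast e2⟩
    have d3 : Nat.card A₃ ∣ deg χ := ⟨_, by exact_mod_cast e3⟩
    exact (Nat.Coprime.mul_left h13 h23).mul_dvd_of_dvd_of_dvd (h12.mul_dvd_of_dvd_of_dvd d1 d2) d3
  have hxε : 0 < (x : ℤ) + ε := by
    have := hD.hx
    rcases F.sgn with r | r <;> subst r <;> omega
  -- sums over all characters
  have hsplit : ∀ f : IrrCharacter G → ℤ,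
      ∑ χ, f χ = f o + f X + ∑ χ ∈ L, f χ + (∑ χ ∈ U, f χ + ∑ χ ∈ E, f χ) := fun f => by
    rw [hU, hE, Finset.sum_filter_add_sum_filter_not, split_sum F f]
  have hsq := hsplit fun χ => (deg χ : ℤ) ^ 2
  rw [sum_deg_sq] at hsq
  rw [ho, deg_oneG, Finset.sum_congr (s₁ := L) rfl fun Q hQ => by rw [F.degL Q hQ], Finset.sum_const,
    F.cardL, nsmul_eq_mul, ← hk1] at hsq
  push_cast at hsq
  have hordN : (Nat.card G : ℤ) ≤ 3 * (N : ℤ) ^ 2 := by exact_mod_cast C.ord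
  have hNpos : (0 : ℤ) < N := by
    rw [hN]
    have a := Nat.card_pos (α := A₁)
    have b := Nat.card_pos (α := A₂)
    have c := Nat.card_pos (α := A₃)
    exact_mod_cast Nat.mul_pos (Nat.mul_pos a b) c
  have hUnn : (0 : ℤ) ≤ ∑ χ ∈ U, (deg χ : ℤ) ^ 2 := Finset.sum_nonneg fun _ _ => sq_nonneg _
  have hEle : (E.card : ℤ) * (N : ℤ) ^ 2 ≤ ∑ χ ∈ E, (deg χ : ℤ) ^ 2 := by
    rw [← nsmul_eq_mul, ← Finset.sum_const]
    refine Finset.sum_le_sum fun χ hχ => pow_le_pow_left₀ hNpos.le ?_ 2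
    exact_mod_cast Nat.le_of_dvd (deg_pos χ) (hEdeg χ hχ)
  have hEeq : ∀ χ ∈ E, (deg χ : ℤ) = N := by
    intro χ hχ
    obtain ⟨m, hm⟩ := hEdeg χ hχ
    have hm0 : 0 < m := by
      rcases Nat.eq_zero_or_pos m with r | r
      · have := deg_pos χ; rw [hm, r, mul_zero] at this; omega
      · exact r
    by_contra hne
    have h2m : 2 ≤ m := by
      by_contra hlt
      refine hne ?_
      rw [hm, show m = 1 by omega, mul_one]
    have hle : (deg χ : ℤ) ^ 2 ≤ ∑ χ ∈ E, (deg χ : ℤ) ^ 2 :=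
      Finset.single_le_sum (f := fun χ => (deg χ : ℤ) ^ 2) (fun _ _ => sq_nonneg _) hχ
    have h4 : 4 * (N : ℤ) ^ 2 ≤ (deg χ : ℤ) ^ 2 := by
      rw [hm]; push_cast
      have : (2 : ℤ) ≤ m := by exact_mod_cast h2m
      nlinarith [mul_le_mul this this (by norm_num) (by positivity), sq_nonneg (N : ℤ)]
    nlinarith [sq_nonneg (x : ℤ), mul_nonneg (show (0 : ℤ) ≤ k1 by positivity) (sq_nonneg ((x : ℤ) + ε))]
  have hs2 : E.card ≤ 2 := by
    by_contra hgt
    have h3 : (3 : ℤ) ≤ E.card := by exact_mod_cast (by omega : 3 ≤ E.card)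
    have := mul_le_mul_of_nonneg_right h3 (sq_nonneg (N : ℤ))
    nlinarith [sq_nonneg (x : ℤ), mul_nonneg (show (0 : ℤ) ≤ k1 by positivity) (sq_nonneg ((x : ℤ) + ε))]
  rw [Finset.sum_congr (s₁ := E) rfl fun χ hχ => by rw [hEeq χ hχ], Finset.sum_const, nsmul_eq_mul] at hsq
  -- the number of classes
  have hclasses : Nat.card (ConjClasses G) = 2 + k1 + (U.card + E.card) := by
    rw [← card_irr_eq_card_conjClasses, Nat.card_eq_fintype_card, ← Finset.card_univ]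
    have h1 := hsplit fun _ => 1
    simp only [Finset.sum_const, nsmul_eq_mul, mul_one] at h1
    rw [F.cardL] at h1
    have : (Finset.univ : Finset (IrrCharacter G)).card = 1 + 1 + k1 + (U.card + E.card) := by exact_mod_cast h1
    omega
  intro g
  by_contra hg
  obtain ⟨p, hp, hp2, hpc⟩ : ∃ p, p.Prime ∧ p ≠ 2 ∧ p ∣ c := by
    by_contra hall
    push Not at hall
    haveI : Fact (Nat.Prime 2) := ⟨Nat.prime_two⟩
    have h1 := Nat.eq_prime_pow_of_unique_prime_dvd (p := 2) hD.cpos.ne'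
      fun {q} hq hqd => by
        by_contra hne
        exact hall q hq hne hqd
    exact hg (IsPGroup.of_card h1 g)
  haveI : Fact p.Prime := ⟨hp⟩
  obtain ⟨⟨z, hzc⟩, hz⟩ := exists_prime_orderOf_dvd_card' (G := Subgroup.centralizer ({u} : Set G)) p hpc
  rw [Subgroup.orderOf_mk] at hz
  have hpN : ¬ p ∣ N := fun hd =>
    hp.ne_one (Nat.dvd_one.mp (hD.cop.gcd_eq_one ▸ Nat.dvd_gcd hpc hd))
  have hcount := C.classes_of_odd hu hp hp2 hz (Subgroup.mem_centralizer_singleton_iff.mp hzc) hpN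
  rw [C.card_allClasses, ← hk1, ← hk2, ← hk3] at hcount
  -- involutions and degrees
  obtain ⟨S, hS, hSle, -, -⟩ := involutions_le_sum_real_degree (G := G) (invNum G) rfl
  have hFS : (invNum G : ℤ) ≤ (x : ℤ) + k1 * ((x : ℤ) + ε) + (∑ χ ∈ U, (deg χ : ℤ) + E.card * (N : ℤ)) := by
    have h1 : invNum G ≤ ∑ χ ∈ Finset.univ.erase o, deg χ := by
      refine hSle.trans ?_
      simp only [charDegree_eq_deg]
      refine Finset.sum_le_sum_of_subset fun χ hχ => Finset.mem_erase.mpr ⟨fun e => ?_, Finset.mem_univ _⟩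
      exact (hS χ hχ).1 (by rw [e]; rfl)
    have h2 := hsplit fun χ => (deg χ : ℤ)
    rw [← Finset.add_sum_erase _ _ (Finset.mem_univ o)] at h2
    simp only at h2
    rw [Finset.sum_congr (s₁ := L) rfl fun Q hQ => by rw [F.degL Q hQ], Finset.sum_const, F.cardL, nsmul_eq_mul,
      Finset.sum_congr (s₁ := E) rfl fun χ hχ => by rw [hEeq χ hχ], Finset.sum_const, nsmul_eq_mul] at h2
    have h1' : (invNum G : ℤ) ≤ ∑ χ ∈ Finset.univ.erase o, (deg χ : ℤ) := by exact_mod_cast h1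
    rw [← hk1] at h2
    linarith
  set s := E.card with hs
  have hs12 : s = 1 ∨ s = 2 := by omega
  have hInv : invNum G = N * h := hD.inv
  have hGc : Nat.card G = N * c * h := hD.card
  have hQ : ((N * c * h : ℕ) : ℤ) - 1 - (x : ℤ) ^ 2 - k1 * ((x : ℤ) + ε) ^ 2 - s * (N : ℤ) ^ 2 =
      ∑ χ ∈ U, (deg χ : ℤ) ^ 2 := by
    rw [← hGc]
    linarith
  have hn1 := C.h₁.card_classesOf
  have hn2 := C.h₂.card_classesOf
  have hn3 := C.h₃.card_classesOf
  refine no_extra (n1 := Nat.card A₁) (n2 := Nat.card A₂) (n3 := Nat.card A₃) (k1 := k1) (k2 := k2) (k3 := k3)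
    (s := s) (c := c) (h := h) (x := x) (e := ε) (y := y) (by omega) (by omega) (by omega)
    (C.h₁.two_le_k (by have := C.h₁.five; omega)) (C.h₂.two_le_k (by have := C.nine₂; omega)) hlt h12 h13 h23
    hs12 F.sgn hD.hx hD.d1 ?_ hD.cpos hD.cop (hD.card ▸ hD.xdvd) (hD.card ▸ C.ord) hD.eq ?_ ?_ ?_ ?_ ?_ ?_
  · rw [Nat.cast_mul]
    exact IsCoprime.mul_dvd (Nat.isCoprime_iff_coprime.mpr h23) ⟨(b' : ℤ) + ε, by linear_combination hb'⟩
      ⟨(b : ℤ) + ε, by linear_combination hb⟩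
  · have h3 : (3 : ℤ) ≤ Nat.card A₃ := by have := C.nine₃; omega
    have h1 : ((y.natAbs * Nat.card A₃ : ℕ) : ℤ) ≤ (x : ℤ) + 1 + (Nat.card A₃ : ℕ) := by
      have h0 : ((y.natAbs * Nat.card A₃ : ℕ) : ℤ) ≤ ((b * Nat.card A₃ : ℕ) : ℤ) := by
        exact_mod_cast Nat.mul_le_mul_right _ hyb
      rcases F.sgn with r | r <;> subst r <;> push_cast at * <;> linarith
    exact_mod_cast h1
  · rw [← hN, ← hInv]
    exact hD.lo
  · rw [← hN, ← hInv]
    refine hD.hi.trans (Nat.add_le_add_right (Nat.mul_le_mul_left _ ?_) _)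
    omega
  · linarith
  · intro r hr hrpos
    have h1 : r ≤ ∑ χ ∈ U, (deg χ : ℤ) := by
      rw [hr, ← hN, ← hInv]
      linarith
    rw [hQ]
    refine (pow_le_pow_left₀ hrpos.le h1 2).trans ((sq_sum_le_card_mul_sum_sq).trans ?_)
    refine mul_le_mul_of_nonneg_right ?_ hUnn
    exact_mod_cast hUcard
  · intro r hr hrpos
    set T := insert X (L ∪ U) with hT
    have hdisj : Disjoint L U := Finset.disjoint_right.mpr fun χ hχ => (hmem χ (Finset.mem_filter.mp hχ).1).2.2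
    have hXnot : X ∉ L ∪ U := fun hh => by
      rcases Finset.mem_union.mp hh with hh | hh
      · exact F.notX hh
      · exact (hmem X (Finset.mem_filter.mp hh).1).2.1 rfl
    have hT1 : ∀ f : IrrCharacter G → ℤ, ∑ χ ∈ T, f χ = f X + (∑ χ ∈ L, f χ + ∑ χ ∈ U, f χ) := fun f => by
      rw [hT, Finset.sum_insert hXnot, Finset.sum_union hdisj]
    have h1 : r ≤ ∑ χ ∈ T, (deg χ : ℤ) := by
      rw [hr, ← hN, ← hInv, hT1, Finset.sum_congr (s₁ := L) rfl fun Q hQ => by rw [F.degL Q hQ], Finset.sum_const,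
        F.cardL, nsmul_eq_mul, ← hk1]
      linarith
    have h2 : ∑ χ ∈ T, (deg χ : ℤ) ^ 2 ≤ ((N * c * h : ℕ) : ℤ) - s * (N : ℤ) ^ 2 := by
      rw [hT1, Finset.sum_congr (s₁ := L) rfl fun Q hQ => by rw [F.degL Q hQ], Finset.sum_const, F.cardL,
        nsmul_eq_mul, ← hk1]
      linarith
    refine (pow_le_pow_left₀ hrpos.le h1 2).trans ((sq_sum_le_card_mul_sum_sq).trans ?_)
    refine mul_le_mul ?_ h2 (Finset.sum_nonneg fun _ _ => sq_nonneg _) (by positivity)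
    rw [hT, Finset.card_insert_of_notMem hXnot, Finset.card_union_of_disjoint hdisj, F.cardL]
    exact_mod_cast (by omega : k1 + U.card + 1 ≤ k1 + k2 + k3 + 3)

/-- Involution centralisers are two-groups. -/
theorem Ctx.isCIT (C : Ctx A₁ A₂ A₃) [IsSimpleGroup G] (hG : ¬ IsMulCommutative G) (t : G) (ht : orderOf t = 2) :
    IsPGroup 2 (Subgroup.centralizer ({t} : Set G)) := by
  classical
  obtain ⟨X, ε, L, F⟩ := exists_Fam hG C.h₁
  obtain ⟨u, hu, -, -, hinv⟩ := C.h₁.exists_inverter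
  have hone : ∀ i : G, orderOf i = 2 → IsConj t i := fun i hi =>
    (F.one_class C.h₁ hG hu hinv ht).symm.trans (F.one_class C.h₁ hG hu hinv hi)
  obtain ⟨c₂, hX₂, hL₂, hc₂⟩ := F.on_other C.h₁ C.h₂ C.nine₂ C.nc₁₂
  obtain ⟨c₃, hX₃, hL₃, hc₃⟩ := F.on_other C.h₁ C.h₃ C.nine₃ C.nc₁₃
  rcases hc₂ with rfl | ⟨rfl, -⟩
  swap
  · exact (F.no_small C hG ht hone hX₂ fun Q hQ φ => by rw [hL₂ Q hQ φ, zero_add]).elim
  rcases hc₃ with rfl | ⟨rfl, -⟩
  swap
  · exact (F.no_small C.swap hG ht hone hX₃ fun Q hQ φ => by rw [hL₃ Q hQ φ, zero_add]).elim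
  have z₂ : ∀ Q ∈ L, ∀ φ, D A₂ Q φ = 0 := fun Q hQ φ => by rw [hL₂ Q hQ φ, neg_add_cancel]
  have z₃ : ∀ Q ∈ L, ∀ φ, D A₃ Q φ = 0 := fun Q hQ φ => by rw [hL₃ Q hQ φ, neg_add_cancel]
  have h23 := C.h₂.coprime_of_not_conj C.h₃ C.nc₂₃
  have e2 := C.h₂.card_classesOf
  have e3 := C.h₃.card_classesOf
  rcases Nat.lt_trichotomy (classesOf A₂).card (classesOf A₃).card with r | r | r
  · exact F.cent_two C hG r ht hone hX₂ z₂ hX₃ z₃
  · rw [show Nat.card A₃ = Nat.card A₂ by omega, Nat.coprime_self] at h23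
    have := C.nine₂
    omega
  · exact F.cent_two C.swap hG r ht hone hX₃ z₃ hX₂ z₂

end CfsgLib.SuzSC
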