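import Cfsg.Agent.Lib.SuzSC.Coef
import Cfsg.Agent.Lib.SuzSC.Comb
import Cfsg.Agent.Lib.KFactThree.Basic

/-!
The exceptional family of a subgroup with automiser of order two.
-/

set_option autoImplicit false
set_option linter.unusedSectionVars false

namespace CfsgLib.SuzSC

open Cfsg CfsgLib.CharTheory

universe u

variable {G : Type u} [Group G] [Fintype G] {A B : Subgroup G} [Fintype ↥A] [Fintype ↥B] {e e' : ℕ}

/-- The principal character. -/
def oneG (G : Type u) [Group G] : IrrCharacter G := ⟨fun _ => 1, isIrrCharacter_one⟩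

/-- Nontrivial characters of `A`. -/
abbrev NT (A : Subgroup G) : Type u := {θ : IrrCharacter ↥A // θ ≠ one A}

/-- The coefficient array. -/
noncomputable def D (A : Subgroup G) [Fintype ↥A] : IrrCharacter G → NT A → ℤ := fun χ θ => coef χ θ.1

/-- Conjugacy of nontrivial characters. -/
def R (A : Subgroup G) : NT A → NT A → Prop := fun θ φ => Rel θ.1 φ.1

noncomputable instance decR (A : Subgroup G) : DecidableRel (R A) := Classical.decRel _

theorem SC.two_le_k (h : SC A e) (he : 2 * e + 1 ≤ Nat.card A) : 2 ≤ (classesOf A).card := by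
  have h1 := h.card_classesOf
  by_contra hlt
  push Not at hlt
  interval_cases (classesOf A).card <;> simp_all <;> have := h.e_pos <;> omega

theorem SC.card_NT (h : SC A e) [Fintype (NT A)] : Fintype.card (NT A) = e * (classesOf A).card := by
  classical
  have h1 : Fintype.card (NT A) = Fintype.card (IrrCharacter ↥A) - 1 := by
    rw [Fintype.card_subtype_compl, Fintype.card_subtype_eq]
  rw [h1, h.card_irr]
  have := h.card_classesOf
  omega

theorem SC.arr (h : SC A e) (he : 2 * e + 1 ≤ Nat.card A) [Fintype (NT A)] :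
    Arr (IrrCharacter G) (NT A) (D A) (R A) e (classesOf A).card where
  gram θ φ := by
    classical
    rw [show (∑ χ, D A χ θ * D A χ φ) = ∑ χ : IrrCharacter G, coef χ θ.1 * coef χ φ.1 from rfl, h.gram θ.2 φ.2]
    exact congrArg _ (if_congr Iff.rfl rfl rfl)
  refl θ := h.rel_self θ.2
  cardR φ := by
    classical
    rw [← h.card_rel φ.2]
    refine Finset.card_bij (fun θ _ => θ.1) (fun θ hθ => ?_) (fun θ _ θ' _ e => Subtype.ext e) fun θ hθ => ?_
    · exact Finset.mem_filter.mpr ⟨Finset.mem_univ _, (Finset.mem_filter.mp hθ).2⟩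
    · have hr := (Finset.mem_filter.mp hθ).2
      have hne : θ ≠ one A := by
        obtain ⟨g, hg⟩ := hr
        intro hh
        subst hh
        refine φ.2 (Subtype.ext (funext fun a => ?_))
        have := congrFun hg ⟨(g : G) * a * (g : G)⁻¹, (Subgroup.mem_normalizer_iff.mp g.2 a).mp a.2⟩
        refine Eq.trans ?_ this
        show (φ.1 : ↥A → ℂ) a = (φ.1 : ↥A → ℂ) _
        refine congrArg (φ.1 : ↥A → ℂ) (Subtype.ext ?_)
        simp only
        group
      exact ⟨⟨θ, hne⟩, Finset.mem_filter.mpr ⟨Finset.mem_univ _, hr⟩, rfl⟩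
  epos := h.e_pos
  cardT := h.card_NT
  two := h.two_le_k he

/-- Degree as a natural number. -/
noncomputable def deg (χ : IrrCharacter G) : ℕ := (irr_degree_pos χ.2).choose

theorem deg_pos (χ : IrrCharacter G) : 0 < deg χ := (irr_degree_pos χ.2).choose_spec.1

theorem deg_spec (χ : IrrCharacter G) : (χ : G → ℂ) 1 = deg χ := (irr_degree_pos χ.2).choose_spec.2

theorem deg_oneG : deg (oneG G) = 1 := by
  have : ((deg (oneG G) : ℕ) : ℂ) = 1 := by rw [← deg_spec]; rfl
  exact_mod_cast this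

theorem two_le_deg [IsSimpleGroup G] (hG : ¬ IsMulCommutative G) {χ : IrrCharacter G} (hχ : χ ≠ oneG G) :
    2 ≤ deg χ := by
  by_contra hlt
  have h1 : deg χ = 1 := by have := deg_pos χ; omega
  obtain ⟨φ, hφ⟩ := exists_hom_of_degree_one (isCharacter_of_irr χ.2) (by rw [deg_spec, h1, Nat.cast_one])
  rcases IsSimpleGroup.eq_bot_or_eq_top_of_normal φ.ker inferInstance with hk | hk
  · exact hG ⟨⟨fun a b => (MonoidHom.ker_eq_bot_iff φ).mp hk (by rw [map_mul, map_mul, mul_comm])⟩⟩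
  · refine hχ (Subtype.ext (funext fun g => ?_))
    have hg : g ∈ φ.ker := hk ▸ Subgroup.mem_top g
    rw [MonoidHom.mem_ker] at hg
    rw [hφ]
    simp [hg, oneG]

theorem SC.deg_eq (h : SC A e) (χ : IrrCharacter G) [Fintype (NT A)] :
    (deg χ : ℤ) = (Nat.card A : ℤ) * mult χ (one A) - ∑ θ : NT A, D A χ θ := by
  classical
  have h1 := h.degree_eq χ
  rw [deg_spec] at h1
  have h2 : ∑ θ : IrrCharacter ↥A, coef χ θ = ∑ θ : NT A, D A χ θ := by
    rw [← Finset.sum_erase (Finset.univ : Finset (IrrCharacter ↥A)) (coef_one χ)]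
    exact Finset.sum_subtype _ (fun θ => by simp) _
  rw [← h2]
  exact_mod_cast h1

theorem degree_relation (h : SC A e) (θ : NT A) :
    ∑ χ : IrrCharacter G, D A χ θ * (deg χ : ℤ) = 0 := by
  have h1 := coef_degree_sum h θ.1
  simp only [deg_spec] at h1
  exact_mod_cast h1

theorem unit_aux {a b c d : ℤ} (hc : c = 1 ∨ c = -1) (hd : d = 1 ∨ d = -1) (ha : a = 0 ∨ a = 1 ∨ a = -1)
    (hb : b = 0 ∨ b = 1 ∨ b = -1) (hne : a ≠ c) (h : c * a + d * b = 1) : a = 0 ∧ b = d := by
  rcases hc with rfl | rfl <;> rcases hd with rfl | rfl <;> rcases ha with rfl | rfl | rfl <;>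
    rcases hb with rfl | rfl | rfl <;> omega

/-- The family: `X` common to all the induced characters, and one further character for each orbit. -/
theorem exists_family [IsSimpleGroup G] (hG : ¬ IsMulCommutative G) (h : SC A 2) [Fintype (NT A)]
    [DecidableEq (IrrCharacter G)] :
    ∃ (X : IrrCharacter G) (ε : ℤ) (L : Finset (IrrCharacter G)), (ε = 1 ∨ ε = -1) ∧ X ≠ oneG G ∧ X ∉ L ∧
      oneG G ∉ L ∧ L.card = (classesOf A).card ∧ (∀ θ, D A X θ = ε) ∧
      (∀ Q ∈ L, (deg Q : ℤ) = deg X + ε) ∧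
      (∀ θ, ∃ Q ∈ L, D A Q θ = -ε ∧ ∀ χ, χ ≠ oneG G → χ ≠ X → χ ≠ Q → D A χ θ = 0) ∧
      ∀ Q ∈ L, ∃ θ, D A Q θ ≠ 0 := by
  classical
  have ha := h.arr (by have := h.five; omega)
  set o := oneG G with ho
  have hDo : ∀ θ, D A o θ = 1 := fun θ => coef_principal θ.2
  -- each column has exactly two further entries, both units
  have hcol : ∀ θ, ∃ P Q, P ≠ o ∧ Q ≠ o ∧ P ≠ Q ∧ (D A P θ = 1 ∨ D A P θ = -1) ∧
      (D A Q θ = 1 ∨ D A Q θ = -1) ∧ ∀ χ, χ ≠ o → χ ≠ P → χ ≠ Q → D A χ θ = 0 := by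
    intro θ
    have hg := ha.gram θ θ
    rw [if_pos (ha.refl θ), ← Finset.add_sum_erase _ _ (Finset.mem_univ o), hDo] at hg
    set s := (Finset.univ.erase o).filter fun χ => D A χ θ ≠ 0 with hs
    have hsum : ∑ χ ∈ s, D A χ θ * D A χ θ = 2 := by
      rw [hs, Finset.sum_filter_of_ne (p := fun χ => D A χ θ ≠ 0) fun χ _ hne hz => hne (by rw [hz, mul_zero])]
      push_cast at hg
      linarith
    have hunit : ∀ χ ∈ s, D A χ θ = 1 ∨ D A χ θ = -1 := by
      intro χ hχ
      have hle : D A χ θ * D A χ θ ≤ 2 :=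
        hsum ▸ Finset.single_le_sum (fun i _ => mul_self_nonneg (D A i θ)) hχ
      have hne := (Finset.mem_filter.mp hχ).2
      have : -2 < D A χ θ ∧ D A χ θ < 2 := ⟨by nlinarith, by nlinarith⟩
      omega
    have hcard : s.card = 2 := by
      rw [Finset.sum_congr rfl fun χ hχ => show D A χ θ * D A χ θ = 1 by
        rcases hunit χ hχ with e | e <;> rw [e] <;> norm_num, Finset.sum_const, nsmul_one] at hsum
      exact_mod_cast hsum
    obtain ⟨P, Q, hPQ, hs2⟩ := Finset.card_eq_two.mp hcard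
    have hP : P ∈ s := by rw [hs2]; simp
    have hQ : Q ∈ s := by rw [hs2]; simp
    refine ⟨P, Q, (Finset.mem_erase.mp (Finset.mem_filter.mp hP).1).1,
      (Finset.mem_erase.mp (Finset.mem_filter.mp hQ).1).1, hPQ, hunit P hP, hunit Q hQ, fun χ h1 h2 h3 => ?_⟩
    by_contra hne
    have : χ ∈ s := Finset.mem_filter.mpr ⟨Finset.mem_erase.mpr ⟨h1, Finset.mem_univ _⟩, hne⟩
    rw [hs2] at this
    simp [h2, h3] at this
  choose P Q hPo hQo hPQ hPu hQu hout using hcol
  have hinner : ∀ θ φ, ¬ R A θ φ → D A (P θ) θ * D A (P θ) φ + D A (Q θ) θ * D A (Q θ) φ = 1 := by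
    intro θ φ hn
    have hg := ha.gram θ φ
    rw [if_neg hn, ← Finset.add_sum_erase _ _ (Finset.mem_univ o), hDo, hDo,
      Finset.sum_eq_add (P θ) (Q θ) (hPQ θ) (fun χ hχ hne => by
        rw [hout θ χ (Finset.mem_erase.mp hχ).1 hne.1 hne.2, zero_mul]) (fun hh => by simp [hPo θ] at hh)
        (fun hh => by simp [hQo θ] at hh)] at hg
    push_cast at hg
    linarith
  have hdegrel : ∀ θ, (1 : ℤ) + D A (P θ) θ * deg (P θ) + D A (Q θ) θ * deg (Q θ) = 0 := by
    intro θ
    have hg := degree_relation h θ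
    rw [← Finset.add_sum_erase _ _ (Finset.mem_univ o), hDo,
      Finset.sum_eq_add (P θ) (Q θ) (hPQ θ) (fun χ hχ hne => by
        rw [hout θ χ (Finset.mem_erase.mp hχ).1 hne.1 hne.2, zero_mul]) (fun hh => by simp [hPo θ] at hh)
        (fun hh => by simp [hQo θ] at hh)] at hg
    rw [show deg o = 1 from deg_oneG] at hg
    push_cast at hg
    linarith
  -- the common character
  obtain ⟨X, hXo, ε, hε, hX⟩ : ∃ X, X ≠ o ∧ ∃ ε : ℤ, (ε = 1 ∨ ε = -1) ∧ ∀ θ, D A X θ = ε := by
    haveI : Nonempty (NT A) := Fintype.card_pos_iff.mp (by rw [ha.cardT]; have := ha.two; omega)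
    obtain ⟨θ₀⟩ := ‹Nonempty (NT A)›
    by_contra hno
    push Not at hno
    obtain ⟨φ, hφ⟩ := hno (P θ₀) (hPo θ₀) _ (hPu θ₀)
    obtain ⟨φ', hφ'⟩ := hno (Q θ₀) (hQo θ₀) _ (hQu θ₀)
    have n1 : ¬ R A θ₀ φ := fun hr => hφ (ha.invariant hr _).symm
    have n2 : ¬ R A θ₀ φ' := fun hr => hφ' (ha.invariant hr _).symm
    -- a unit column entry at a prescribed row
    have hentry : ∀ θ χ, χ ≠ o → D A χ θ ≠ 0 → (χ = P θ ∨ χ = Q θ) := fun θ χ h1 h2 => by
      by_contra hh
      push Not at hh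
      exact h2 (hout θ χ h1 hh.1 hh.2)
    have hval : ∀ θ χ, χ ≠ o → D A χ θ = 0 ∨ D A χ θ = 1 ∨ D A χ θ = -1 := fun θ χ h1 => by
      by_cases h2 : D A χ θ = 0
      · exact Or.inl h2
      · rcases hentry θ χ h1 h2 with e | e <;> rw [e] <;>
          first | exact Or.inr (hPu θ) | exact Or.inr (hQu θ)
    have hi := hinner θ₀ φ n1
    have hi' := hinner θ₀ φ' n2
    obtain ⟨eP0, eP1⟩ := unit_aux (hPu θ₀) (hQu θ₀) (hval φ _ (hPo θ₀)) (hval φ _ (hQo θ₀)) hφ hi
    obtain ⟨eQ0, eQ1⟩ := unit_aux (hQu θ₀) (hPu θ₀) (hval φ' _ (hQo θ₀)) (hval φ' _ (hPo θ₀)) hφ'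
      (by linarith)
    -- the further character of a column with a given one
    have hpartner : ∀ θ χ, χ ≠ o → D A χ θ ≠ 0 → ∃ Z, Z ≠ o ∧ Z ≠ χ ∧ (D A Z θ = 1 ∨ D A Z θ = -1) ∧
        (∀ W, W ≠ o → W ≠ χ → W ≠ Z → D A W θ = 0) ∧
        (1 : ℤ) + D A χ θ * deg χ + D A Z θ * deg Z = 0 := by
      intro θ χ h1 h2
      rcases hentry θ χ h1 h2 with e | e <;> subst e
      · exact ⟨Q θ, hQo θ, (hPQ θ).symm, hQu θ, hout θ, hdegrel θ⟩
      · exact ⟨P θ, hPo θ, hPQ θ, hPu θ, fun W w1 w2 w3 => hout θ W w1 w3 w2, by linarith [hdegrel θ]⟩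
    have uP := hPu θ₀
    have uQ := hQu θ₀
    obtain ⟨Z, hZo, hZQ, hZu, hZout, d1⟩ := hpartner φ (Q θ₀) (hQo θ₀) (by rw [eP1]; omega)
    obtain ⟨Z', hZo', hZP', hZu', hZout', d2⟩ := hpartner φ' (P θ₀) (hPo θ₀) (by rw [eQ1]; omega)
    have n3 : ¬ R A φ φ' := fun hr => by
      have := ha.invariant hr (P θ₀)
      rw [eP0, eQ1] at this
      omega
    have hi3 := ha.gram φ φ'
    rw [if_neg n3, ← Finset.add_sum_erase _ _ (Finset.mem_univ o), hDo, hDo,
      Finset.sum_eq_add (Q θ₀) Z hZQ.symm (fun χ hχ hne => by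
        rw [hZout χ (Finset.mem_erase.mp hχ).1 hne.1 hne.2, zero_mul]) (fun hh => by simp [hQo θ₀] at hh)
        (fun hh => by simp [hZo] at hh), eQ0, mul_zero, zero_add] at hi3
    have hne3 : D A Z φ' ≠ 0 := fun hh => by rw [hh, mul_zero] at hi3; omega
    have hZeq : Z = Z' := by
      by_contra hne
      refine hne3 (hZout' Z hZo (fun hh => ?_) hne)
      rw [hh, eP0] at hZu
      omega
    subst hZeq
    rw [eP1] at d1
    rw [eQ1] at d2
    have d0 := hdegrel θ₀
    rcases uP with c | c <;> rcases uQ with d | d <;> rcases hZu with p | p <;> rcases hZu' with q | q <;>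
      simp only [c, d, p, q] at d0 d1 d2 hi3 <;> omega
  -- the other character of each column
  have hoth : ∀ θ, ∃ Y, Y ≠ o ∧ Y ≠ X ∧ D A Y θ = -ε ∧ (deg Y : ℤ) = deg X + ε ∧
      ∀ χ, χ ≠ o → χ ≠ X → χ ≠ Y → D A χ θ = 0 := by
    intro θ
    have hx0 : X = P θ ∨ X = Q θ := by
      by_contra hh
      push Not at hh
      have := hout θ X hXo hh.1 hh.2
      rw [hX] at this
      omega
    have hd := hdegrel θ
    have h2 := two_le_deg hG hXo
    rcases hx0 with e | e
    · have := deg_pos (Q θ)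
      have hv := hQu θ
      rw [← e, hX] at hd
      have hQv : D A (Q θ) θ = -ε := by
        rcases hε with r | r <;> rcases hv with q | q <;> simp only [r, q] at hd ⊢ <;> omega
      refine ⟨Q θ, hQo θ, fun hh => hPQ θ (by rw [← e, hh]), hQv, ?_, fun χ h1 h3 h4 => hout θ χ h1 (e ▸ h3) h4⟩
      rcases hε with r | r <;> simp only [r, hQv] at hd ⊢ <;> omega
    · have := deg_pos (P θ)
      have hv := hPu θ
      rw [← e, hX] at hd
      have hPv : D A (P θ) θ = -ε := by
        rcases hε with r | r <;> rcases hv with q | q <;> simp only [r, q] at hd ⊢ <;> omega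
      refine ⟨P θ, hPo θ, fun hh => hPQ θ (by rw [← e, hh]), hPv, ?_, fun χ h1 h3 h4 => hout θ χ h1 h4 (e ▸ h3)⟩
      rcases hε with r | r <;> simp only [r, hPv] at hd ⊢ <;> omega
  choose Y hYo hYX hYv hYd hYout using hoth
  refine ⟨X, ε, Finset.univ.image Y, hε, hXo, ?_, ?_, ?_, hX, ?_, fun θ => ⟨Y θ, by simp, hYv θ, hYout θ⟩, ?_⟩
  · simp only [Finset.mem_image, Finset.mem_univ, true_and, not_exists]
    exact hYX
  · simp only [Finset.mem_image, Finset.mem_univ, true_and, not_exists]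
    exact hYo
  · have hfib : ∀ Z ∈ Finset.univ.image Y, (Finset.univ.filter fun θ => Y θ = Z).card = 2 := by
      intro Z hZ
      obtain ⟨φ, -, rfl⟩ := Finset.mem_image.mp hZ
      rw [← ha.cardR φ]
      refine congrArg Finset.card (Finset.filter_congr fun θ _ => ⟨fun hh => ?_, fun hr => ?_⟩)
      · by_contra hn
        have hg := ha.gram θ φ
        rw [if_neg hn, ← Finset.add_sum_erase _ _ (Finset.mem_univ o), hDo, hDo,
          Finset.sum_eq_add X (Y φ) (hYX φ).symm (fun χ hχ hne => by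
            rw [hYout φ χ (Finset.mem_erase.mp hχ).1 hne.1 hne.2, mul_zero]) (fun hh' => by simp [hXo] at hh')
            (fun hh' => by simp [hYo φ] at hh'), hX, hX, hYv, show D A (Y φ) θ = -ε by rw [← hh]; exact hYv θ] at hg
        rcases hε with r | r <;> simp only [r] at hg <;> norm_num at hg
      · by_contra hne
        have h1 := hYout φ (Y θ) (hYo θ) (hYX θ) hne
        rw [← ha.invariant hr, hYv] at h1
        omega
    have hc : Fintype.card (NT A) = (Finset.univ.image Y).card * 2 := by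
      rw [← Finset.card_univ, Finset.card_eq_sum_card_fiberwise (f := Y) (t := Finset.univ.image Y)
        (fun θ _ => Finset.mem_image_of_mem _ (Finset.mem_univ _)), Finset.sum_congr rfl hfib,
        Finset.sum_const, smul_eq_mul]
    rw [ha.cardT] at hc
    omega
  · intro Z hZ
    obtain ⟨θ, -, rfl⟩ := Finset.mem_image.mp hZ
    exact hYd θ
  · intro Z hZ
    obtain ⟨θ, -, rfl⟩ := Finset.mem_image.mp hZ
    exact ⟨θ, by rw [hYv]; omega⟩

end CfsgLib.SuzSC
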