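import Cfsg.Agent.Lib.SuzSC.Basic
import Cfsg.Agent.Lib.CIT.Main
import Cfsg.Agent.Lib.SuzukiUnique.CIT
import Cfsg.Agent.Lib.PSL2Spectrum
import Cfsg.Agent.Lib.SLCard
import Cfsg.Prelude.Def_Sz

/-!
Groups with three classes of such subgroups in which centralisers of involutions are 2-groups are
Suzuki groups.
-/

set_option autoImplicit false
set_option linter.style.haveILetI false
set_option linter.unnecessarySeqFocus false

namespace CfsgLib.SuzSC

open Subgroup

variable {G : Type*} [Group G] [Finite G]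

/-- An element whose order shares a prime with `|A|` has order dividing `|A|`. -/
theorem SC.orderOf_dvd_card {A : Subgroup G} {e : ℕ} (h : SC A e) {ℓ : ℕ} (hℓ : ℓ.Prime)
    (hA : ℓ ∣ Nat.card A) {g : G} (hg : ℓ ∣ orderOf g) : orderOf g ∣ Nat.card A := by
  haveI : Fact ℓ.Prime := ⟨hℓ⟩
  obtain ⟨⟨a, ha⟩, hao⟩ := exists_prime_orderOf_dvd_card' (G := A) ℓ hA
  rw [orderOf_mk] at hao
  obtain ⟨y, hy, hyo⟩ : ∃ y, Commute y g ∧ orderOf y = ℓ := by
    refine ⟨g ^ (orderOf g / ℓ), Commute.pow_self g _, ?_⟩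
    rw [orderOf_pow_of_dvd (Nat.div_pos (Nat.le_of_dvd (orderOf_pos g) hg) hℓ.pos).ne'
      (Nat.div_dvd_of_dvd hg), Nat.div_div_self hg (orderOf_pos g).ne']
  obtain ⟨S, hS⟩ := (IsPGroup.of_card (p := ℓ) (n := 1)
    (by rw [Nat.card_zpowers, hao, pow_one] : Nat.card (zpowers a) = ℓ ^ 1)).exists_le_sylow
  obtain ⟨T, hT⟩ := (IsPGroup.of_card (p := ℓ) (n := 1)
    (by rw [Nat.card_zpowers, hyo, pow_one] : Nat.card (zpowers y) = ℓ ^ 1)).exists_le_sylow
  obtain ⟨k, hk⟩ := MulAction.exists_smul_eq G T S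
  have ha1 : a ≠ 1 := fun e => hℓ.ne_one (by rw [← hao, e, orderOf_one])
  have hy1 : y ≠ 1 := fun e => hℓ.ne_one (by rw [← hyo, e, orderOf_one])
  haveI : Nontrivial (S : Subgroup G) :=
    ⟨⟨⟨a, hS (mem_zpowers a)⟩, 1, fun hh => ha1 (congrArg Subtype.val hh)⟩⟩
  haveI := S.2.center_nontrivial
  obtain ⟨z, hz1⟩ := exists_ne (1 : center (S : Subgroup G))
  have hzA : ((z : (S : Subgroup G)) : G) ∈ A :=
    h.mem_of_comm ha ha1 (congrArg Subtype.val
      (mem_center_iff.mp z.2 ⟨a, hS (mem_zpowers a)⟩)).symm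
  have hz1' : ((z : (S : Subgroup G)) : G) ≠ 1 := fun hh => hz1 (Subtype.ext (Subtype.ext hh))
  have hkS : k * y * k⁻¹ ∈ (S : Subgroup G) := by
    rw [← hk]
    exact smul_mem_pointwise_smul _ (MulAut.conj k) _ (hT (mem_zpowers y))
  have hkA : k * y * k⁻¹ ∈ A := h.mem_of_comm hzA hz1'
    (congrArg Subtype.val (mem_center_iff.mp z.2 ⟨_, hkS⟩))
  have hne : k * y * k⁻¹ ≠ 1 := fun e => hy1 (conj_eq_one_iff.mp e)
  have hgA : k * g * k⁻¹ ∈ A := h.mem_of_comm hkA hne
    (by rw [show k * g * k⁻¹ * (k * y * k⁻¹) = k * (g * y) * k⁻¹ by group, ← hy.eq]; group)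
  have := Subgroup.orderOf_dvd_natCard A hgA
  rwa [show orderOf (k * g * k⁻¹) = orderOf g from (MulAut.conj k).orderOf_eq g] at this

/-- The identification. -/
theorem suzuki_of_cit {G : Type*} [Group G] [Finite G] [IsSimpleGroup G] (hG : ¬ IsMulCommutative G)
    (hC : CfsgLib.CIT.IsCIT G) {A₁ A₂ A₃ : Subgroup G} (h₁ : SC A₁ 2) (h₂ : SC A₂ 4) (h₃ : SC A₃ 4)
    (n₂ : 9 ≤ Nat.card A₂) (n₃ : 9 ≤ Nat.card A₃)
    (hnc : ∀ g : G, A₁.map (MulAut.conj g).toMonoidHom ≠ A₂ ∧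
      A₁.map (MulAut.conj g).toMonoidHom ≠ A₃ ∧ A₂.map (MulAut.conj g).toMonoidHom ≠ A₃) :
    Cfsg.Lie.IsoSuzuki G := by
  classical
  have hna : ∃ a b : G, a * b ≠ b * a := by
    by_contra h
    push Not at h
    exact hG ⟨⟨h⟩⟩
  have c12 := h₁.coprime_of_not_conj h₂ fun g => (hnc g).1
  have c13 := h₁.coprime_of_not_conj h₃ fun g => (hnc g).2.1
  have c23 := h₂.coprime_of_not_conj h₃ fun g => (hnc g).2.2
  have hprod : Nat.card A₁ * Nat.card A₂ * Nat.card A₃ ∣ Nat.card G :=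
    (c13.mul_left c23).mul_dvd_of_dvd_of_dvd
      (c12.mul_dvd_of_dvd_of_dvd (card_subgroup_dvd_card A₁) (card_subgroup_dvd_card A₂))
      (card_subgroup_dvd_card A₃)
  have hoddprod : Odd (Nat.card A₁ * Nat.card A₂ * Nat.card A₃) := (h₁.odd.mul h₂.odd).mul h₃.odd
  have hbig : 405 ≤ Nat.card A₁ * Nat.card A₂ * Nat.card A₃ :=
    calc 405 = 5 * 9 * 9 := by norm_num
      _ ≤ _ := by have := h₁.five; gcongr
  rcases CfsgLib.CIT.classification hna hC with ⟨hTI, hl | hs⟩ | h | h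
  · -- no element of order four
    exfalso
    obtain ⟨F, iF, iFt, n, hn, hc, ⟨f⟩⟩ := hl
    haveI : Fact (Nat.Prime 2) := ⟨Nat.prime_two⟩
    haveI : CharP F 2 := charP_of_card_eq_prime_pow hc
    obtain ⟨v, hv⟩ := h₂.exists_order_four
    have hv' : orderOf (f v) = 4 := by rw [f.orderOf_eq, hv]
    have h4 := (CfsgLib.PSL2Spectrum.psl_orders (F := F) 2 4).mp ⟨_, hv'⟩
    obtain ⟨r, hr, hr2⟩ : ∃ r, 2 ^ n = 2 * r ∧ 2 ≤ r := by
      obtain ⟨n, rfl⟩ : ∃ m, n = m + 2 := ⟨n - 2, by omega⟩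
      exact ⟨2 ^ (n + 1), by ring, Nat.le_self_pow (by omega) 2⟩
    have hodd : Nat.gcd 2 (Fintype.card F - 1) = 1 := by
      rw [hc, hr, Nat.coprime_two_left.mpr]
      rw [Nat.odd_iff]
      omega
    rw [hodd, Nat.div_one, Nat.div_one, hc, hr] at h4
    omega
  · obtain ⟨F, iF, iFt, m, hm, hc, -, he⟩ :=
      CfsgLib.SuzukiUnique.exists_equiv_of_suzType hna hC hTI hs
    exact ⟨F, iF, iFt, m, hm, hc, he⟩
  · exfalso
    obtain ⟨F, iF, iFt, hq, ⟨f⟩⟩ := h
    have hcard : Nat.card G = Nat.card (Matrix.ProjectiveSpecialLinearGroup (Fin 2) F) :=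
      Nat.card_congr f.toEquiv
    have hP := CfsgLib.SLCard.gcd_mul_card_PSL (F := F) (n := 2) (by norm_num)
    rw [CfsgLib.SLCard.card_SL_two] at hP
    rcases hq with hq | ⟨hq7, hqp, k, hk⟩
    · rw [hq, ← hcard] at hP
      norm_num at hP
      have hG : Nat.card G = 360 := by omega
      rw [hG] at hprod
      have : Nat.card A₁ * Nat.card A₂ * Nat.card A₃ ≤ 360 := Nat.le_of_dvd (by norm_num) hprod
      omega
    · haveI : Fact (Nat.Prime (Fintype.card F)) := ⟨hqp⟩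
      haveI : CharP F (Fintype.card F) := charP_of_card_eq_prime_pow (f := 1) (by simp)
      set q := Fintype.card F with hqdef
      have hqodd : Odd q := hqp.odd_of_ne_two (by omega)
      have hgcd : Nat.gcd 2 (q - 1) = 2 := by
        obtain ⟨j, hj⟩ := hqodd
        rw [hj, Nat.add_sub_cancel]
        simp
      rw [hgcd, ← hcard] at hP
      -- the odd half `o` of `q ± 1`
      obtain ⟨o, w, ho, ho2, hoq, hGo⟩ : ∃ o w : ℕ, Odd o ∧
          (o = (q - 1) / 2 ∨ o = (q + 1) / 2) ∧ 1 < o ∧ Nat.card G = q * o * 2 ^ w := by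
        obtain ⟨k, rfl⟩ : ∃ k', k = k' + 1 := ⟨k - 1, by
          rcases k with _ | k <;> simp at hk ⊢ <;> omega⟩
        have hk2 : 2 ≤ k := by
          by_contra hcon
          rcases (by omega : k = 0 ∨ k = 1) with rfl | rfl <;> rcases hk with hk | hk <;>
            simp at hk <;> omega
        obtain ⟨j, rfl⟩ : ∃ j, k = j + 2 := ⟨k - 2, by omega⟩
        have hev : ∃ t, 2 ^ (j + 2) = 2 * t ∧ 2 ≤ t :=
          ⟨2 ^ (j + 1), by ring, Nat.le_self_pow (by omega) 2⟩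
        obtain ⟨t, ht, ht2⟩ := hev
        rw [pow_succ] at hk
        rcases hk with hk | hk
        · refine ⟨2 ^ (j + 2) + 1, j + 3, ⟨t, by omega⟩, Or.inr (by omega), by omega, ?_⟩
          have e : q ^ 2 - 1 = 2 * ((2 ^ (j + 2) + 1) * 2 ^ (j + 3)) := by
            rw [hk, show 2 ^ (j + 2) * 2 = 2 ^ (j + 3) by ring]
            apply Nat.sub_eq_of_eq_add
            rw [show 2 ^ (j + 3) = 2 * 2 ^ (j + 2) by ring]
            ring
          rw [e] at hP
          linarith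
        · refine ⟨2 ^ (j + 2) - 1, j + 3, ⟨t - 1, by omega⟩, Or.inl (by omega), by omega, ?_⟩
          have e : q ^ 2 - 1 = 2 * ((2 ^ (j + 2) - 1) * 2 ^ (j + 3)) := by
            obtain ⟨r, hr⟩ : ∃ r, 2 ^ (j + 2) = r + 1 := ⟨2 ^ (j + 2) - 1, by omega⟩
            rw [hr] at hk
            have hq' : q = 2 * r + 1 := by omega
            rw [hq', hr, Nat.add_sub_cancel, show 2 ^ (j + 3) = 2 * (r + 1) by rw [← hr]; ring]
            apply Nat.sub_eq_of_eq_add
            ring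
          rw [e] at hP
          linarith
      obtain ⟨x, hx⟩ := (CfsgLib.PSL2Spectrum.psl_orders (F := F) q o).mpr (by
        rw [← hqdef, hgcd]
        rcases ho2 with h | h
        · exact Or.inl (h ▸ dvd_rfl)
        · exact Or.inr (Or.inl (h ▸ dvd_rfl)))
      have hxo : orderOf (f.symm x) = o := by rw [f.symm.orderOf_eq, hx]
      have key : ∀ (A : Subgroup G) (e : ℕ), SC A e → ¬ q ∣ Nat.card A → Nat.card A = o := by
        intro A e hA hqA
        have h1 : Nat.card A ∣ q * o * 2 ^ w := hGo ▸ card_subgroup_dvd_card A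
        have h2 : Nat.card A ∣ q * o :=
          ((Nat.coprime_two_right.mpr hA.odd).pow_right w).dvd_of_dvd_mul_right h1
        have h3 : Nat.card A ∣ o :=
          (Nat.Coprime.symm ((hqp.coprime_iff_not_dvd).mpr hqA)).dvd_of_dvd_mul_left h2
        obtain ⟨ℓ, hℓ, hℓA⟩ := Nat.exists_prime_and_dvd (n := Nat.card A) (by have := hA.five; omega)
        exact Nat.dvd_antisymm h3 (hxo ▸ hA.orderOf_dvd_card hℓ hℓA (hxo.symm ▸ hℓA.trans h3))
      have two : ∀ (A B : Subgroup G) (e e' : ℕ), SC A e → SC B e' →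
          (Nat.card A).Coprime (Nat.card B) → q ∣ Nat.card A ∨ q ∣ Nat.card B := by
        intro A B e e' hA hB hco
        by_contra hcon
        push Not at hcon
        rw [key A e hA hcon.1, key B e' hB hcon.2, Nat.coprime_self] at hco
        omega
      have noboth : ∀ m n : ℕ, m.Coprime n → q ∣ m → q ∣ n → False := fun m n hmn h1 h2 =>
        hqp.ne_one (Nat.eq_one_of_dvd_coprimes hmn h1 h2)
      rcases two A₁ A₂ 2 4 h₁ h₂ c12 with d | d
      · rcases two A₂ A₃ 4 4 h₂ h₃ c23 with d' | d'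
        · exact noboth _ _ c12 d d'
        · exact noboth _ _ c13 d d'
      · rcases two A₁ A₃ 2 4 h₁ h₃ c13 with d' | d'
        · exact noboth _ _ c12 d' d
        · exact noboth _ _ c23 d d'
  · exfalso
    obtain ⟨F, iF, iFt, hF, ⟨f⟩⟩ := h
    have h1 := CfsgLib.SLCard.gcd_mul_card_PSL (F := F) (n := 3) (by norm_num)
    have h2 := CfsgLib.SLCard.card_units_mul_card_SL (F := F) (n := 3) (by norm_num)
    rw [Matrix.card_GL_field, Fin.prod_univ_three, hF] at h2
    rw [hF, ← Nat.card_congr f.toEquiv] at h1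
    norm_num at h1 h2
    have hG : Nat.card G = 2 ^ 6 * 315 := by omega
    rw [hG] at hprod
    have h315 : Nat.card A₁ * Nat.card A₂ * Nat.card A₃ ∣ 315 :=
      ((Nat.coprime_two_right.mpr hoddprod).pow_right 6).dvd_of_dvd_mul_left hprod
    have := Nat.le_of_dvd (by norm_num) h315
    omega

end CfsgLib.SuzSC
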