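import Cfsg.Agent.Lib.SuzSC.Family
import Cfsg.Agent.Lib.SuzSC.Count

/-!
Character values: one class of involutions, the order equation, and the behaviour on the other subgroups.
-/

set_option autoImplicit false
set_option linter.unusedSectionVars false

namespace CfsgLib.SuzSC

open Cfsg CfsgLib.CharTheory
open scoped ComplexConjugate

universe u

variable {G : Type u} [Group G] [Fintype G]

/-- The data of `exists_family`. -/
structure Fam (A : Subgroup G) [Fintype ↥A] (X : IrrCharacter G) (ε : ℤ) (L : Finset (IrrCharacter G)) : Prop where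
  sgn : ε = 1 ∨ ε = -1
  neX : X ≠ oneG G
  notX : X ∉ L
  notO : oneG G ∉ L
  cardL : L.card = (classesOf A).card
  dX : ∀ θ, D A X θ = ε
  degL : ∀ Q ∈ L, (deg Q : ℤ) = deg X + ε
  col : ∀ θ, ∃ Q ∈ L, D A Q θ = -ε ∧ ∀ χ, χ ≠ oneG G → χ ≠ X → χ ≠ Q → D A χ θ = 0
  hit : ∀ Q ∈ L, ∃ θ, D A Q θ ≠ 0

theorem exists_Fam [IsSimpleGroup G] (hG : ¬ IsMulCommutative G) {A : Subgroup G} [Fintype ↥A]
    [Fintype (NT A)] (h : SC A 2) : ∃ X ε L, Fam A X ε L := by
  classical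
  obtain ⟨X, ε, L, a1, a2, a3, a4, a5, a6, a7, a8, a9⟩ := exists_family hG h
  exact ⟨X, ε, L, ⟨a1, a2, a3, a4, a5, a6, a7, a8, a9⟩⟩

variable {A B : Subgroup G} [Fintype ↥A] [Fintype ↥B] [Fintype (NT A)] [Fintype (NT B)] {e : ℕ}
  {X : IrrCharacter G} {ε : ℤ} {L : Finset (IrrCharacter G)}

theorem Fam.col_sum (F : Fam A X ε L) (θ : NT A) (f : IrrCharacter G → ℂ) :
    ∃ Q ∈ L, D A Q θ = -ε ∧
      ∑ χ : IrrCharacter G, (D A χ θ : ℂ) * f χ = f (oneG G) + ε * f X - ε * f Q := by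
  classical
  obtain ⟨Q, hQL, hQ, hout⟩ := F.col θ
  refine ⟨Q, hQL, hQ, ?_⟩
  have hXo := F.neX
  have hQo : Q ≠ oneG G := fun e => F.notO (e ▸ hQL)
  have hQX : Q ≠ X := fun e => F.notX (e ▸ hQL)
  rw [← Finset.sum_subset (Finset.subset_univ ({oneG G, X, Q} : Finset _)) fun χ _ hχ => ?_]
  · rw [Finset.sum_insert (by simp [hXo.symm, hQo.symm]), Finset.sum_pair hQX.symm, hQ, F.dX θ,
      show D A (oneG G) θ = 1 from coef_principal θ.2]
    push_cast
    ring
  · simp only [Finset.mem_insert, Finset.mem_singleton, not_or] at hχ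
    rw [hout χ hχ.1 hχ.2.1 hχ.2.2, Int.cast_zero, zero_mul]

theorem Fam.D_other (F : Fam A X ε L) {χ : IrrCharacter G} (h1 : χ ≠ oneG G) (h2 : χ ≠ X) (h3 : χ ∉ L)
    (θ : NT A) : D A χ θ = 0 := by
  obtain ⟨Q, hQL, -, hout⟩ := F.col θ
  exact hout χ h1 h2 fun e => h3 (e ▸ hQL)

theorem SC.val_NT (h : SC A e) (χ : IrrCharacter G) {a : ↥A} (h1 : a ≠ 1) :
    (χ : G → ℂ) a = -∑ θ : NT A, (D A χ θ : ℂ) * (θ.1 : ↥A → ℂ) a := by
  classical
  rw [h.val_eq χ h1, ← Finset.sum_erase (Finset.univ : Finset (IrrCharacter ↥A))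
    (show (coef χ (one A) : ℂ) * (one A : ↥A → ℂ) a = 0 by simp)]
  exact congrArg Neg.neg (Finset.sum_subtype _ (fun θ => by simp) _)

theorem SC.sum_NT (h : SC A e) {a : ↥A} (h1 : a ≠ 1) : ∑ θ : NT A, (θ.1 : ↥A → ℂ) a = -1 := by
  classical
  have := h.sum_apply h1
  rw [← Finset.add_sum_erase _ _ (Finset.mem_univ (one A)),
    Finset.sum_subtype (p := fun θ => θ ≠ one A) _ (fun θ => by simp),
    show (one A : ↥A → ℂ) a = 1 from rfl] at this
  rw [eq_neg_iff_add_eq_zero, add_comm]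
  convert this using 0

theorem SC.val_const (h : SC A e) (χ : IrrCharacter G) {d : ℤ} (hd : ∀ θ, D A χ θ = d) {a : ↥A} (h1 : a ≠ 1) :
    (χ : G → ℂ) a = d := by
  rw [h.val_NT χ h1, Finset.sum_congr rfl fun θ _ => by rw [hd θ], ← Finset.mul_sum, h.sum_NT h1]
  ring

theorem Fam.sum_L_val (F : Fam A X ε L) (h : SC A 2) {a : ↥A} (h1 : a ≠ 1) :
    ∑ Q ∈ L, (Q : G → ℂ) a = -(ε : ℂ) := by
  classical
  rw [Finset.sum_congr rfl fun Q _ => h.val_NT Q h1, Finset.sum_neg_distrib, Finset.sum_comm,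
    Finset.sum_congr rfl fun θ _ => show ∑ Q ∈ L, (D A Q θ : ℂ) * (θ.1 : ↥A → ℂ) a =
      (-ε : ℂ) * (θ.1 : ↥A → ℂ) a by
    obtain ⟨Q, hQL, hQ, hout⟩ := F.col θ
    rw [Finset.sum_eq_single Q (fun χ hχ hne => by
      rw [hout χ (fun e => F.notO (e ▸ hχ)) (fun e => F.notX (e ▸ hχ)) hne, Int.cast_zero, zero_mul])
      (fun hh => absurd hQL hh), hQ]
    push_cast
    rfl, ← Finset.mul_sum, h.sum_NT h1]
  ring

theorem Fam.Q_val (F : Fam A X ε L) (h : SC A 2) {Q : IrrCharacter G} (hQ : Q ∈ L) {g : G}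
    (hg : ∀ a ∈ A, a ≠ 1 → ¬ IsConj g a) : (Q : G → ℂ) g = (X : G → ℂ) g + ε := by
  obtain ⟨θ, hθ⟩ := F.hit Q hQ
  obtain ⟨Q', hQL', hv', hsum⟩ := F.col_sum θ fun χ => (χ : G → ℂ) g
  have hQQ : Q = Q' := by
    obtain ⟨Q'', -, -, hout⟩ := F.col θ
    have e1 : Q = Q'' := by
      by_contra hne
      exact hθ (hout Q (fun e => F.notO (e ▸ hQ)) (fun e => F.notX (e ▸ hQ)) hne)
    have e2 : Q' = Q'' := by
      by_contra hne
      have := hout Q' (fun e => F.notO (e ▸ hQL')) (fun e => F.notX (e ▸ hQL')) hne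
      rw [hv'] at this
      rcases F.sgn with r | r <;> omega
    exact e1.trans e2.symm
  subst hQQ
  have h0 := psi_eq_sum (A := A) θ.1 g
  rw [psi_eq_zero h hg] at h0
  change (0 : ℂ) = ∑ χ : IrrCharacter G, (D A χ θ : ℂ) * (χ : G → ℂ) g at h0
  rw [hsum] at h0
  have hε : (ε : ℂ) * ε = 1 := by rcases F.sgn with r | r <;> simp [r]
  change (0 : ℂ) = 1 + _ - _ at h0
  linear_combination (ε : ℂ) * h0 + ((X : G → ℂ) g - (Q : G → ℂ) g) * hε

theorem val_zero_of_D_zero (h : SC A e) {χ : IrrCharacter G} (hd : ∀ θ, D A χ θ = 0) {a : ↥A} (h1 : a ≠ 1) :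
    (χ : G → ℂ) a = 0 := by
  rw [h.val_const χ hd h1, Int.cast_zero]

theorem not_conj_A_of_involution (h : SC A e) {g : G} (hg : orderOf g = 2) :
    ∀ a ∈ A, a ≠ 1 → ¬ IsConj g a := by
  intro a ha _ hc
  obtain ⟨k, hk⟩ := isConj_iff.mp hc
  refine h.orderOf_ne_two ?_ ha
  rw [← hk, CfsgLib.Involutions.orderOf_conj, hg]

/-- The triple sum over all characters. -/
theorem Fam.triple_sum (F : Fam A X ε L) (h : SC A 2) [IsSimpleGroup G] (hG : ¬ IsMulCommutative G)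
    {u u' : G} (hu : orderOf u = 2) (hu' : orderOf u' = 2) {a : ↥A} (h1 : a ≠ 1) :
    ∑ χ : IrrCharacter G, (χ : G → ℂ) u * (χ : G → ℂ) u' * conj ((χ : G → ℂ) a) / (χ : G → ℂ) 1 =
      ((deg X : ℂ) - (X : G → ℂ) u) * ((deg X : ℂ) - (X : G → ℂ) u') / ((deg X : ℂ) * ((deg X : ℂ) + ε)) := by
  classical
  have hx2 := two_le_deg hG F.neX
  have hε : (ε : ℂ) * ε = 1 := by rcases F.sgn with r | r <;> simp [r]
  rw [← Finset.sum_subset (Finset.subset_univ (insert (oneG G) (insert X L))) fun χ _ hχ => ?_]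
  · rw [Finset.sum_insert (by simp [F.neX.symm, F.notO]), Finset.sum_insert F.notX]
    rw [Finset.sum_congr (s₁ := L) rfl fun (Q : IrrCharacter G) hQ => show (Q : G → ℂ) u * (Q : G → ℂ) u' * conj ((Q : G → ℂ) a) /
        (Q : G → ℂ) 1 = ((X : G → ℂ) u + ε) * ((X : G → ℂ) u' + ε) / ((deg X : ℂ) + ε) * conj ((Q : G → ℂ) a) by
      rw [F.Q_val h hQ (not_conj_A_of_involution h hu), F.Q_val h hQ (not_conj_A_of_involution h hu'),
        deg_spec, show (deg Q : ℂ) = (deg X : ℂ) + ε by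
          have := F.degL Q hQ
          exact_mod_cast this]
      ring, ← Finset.mul_sum, ← map_sum, F.sum_L_val h h1, map_neg, map_intCast]
    rw [show (oneG G : G → ℂ) u = 1 from rfl, show (oneG G : G → ℂ) u' = 1 from rfl,
      show (oneG G : G → ℂ) (a : G) = 1 from rfl, show (oneG G : G → ℂ) 1 = 1 from rfl,
      h.val_const X F.dX h1, map_intCast, deg_spec, map_one]
    have hx : (deg X : ℂ) ≠ 0 := Nat.cast_ne_zero.mpr (by omega)
    have hxe : (deg X : ℂ) + ε ≠ 0 := by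
      rcases F.sgn with r | r <;> subst r
      · exact_mod_cast (show (deg X : ℤ) + 1 ≠ 0 by omega)
      · exact_mod_cast (show (deg X : ℤ) + -1 ≠ 0 by omega)
    field_simp
    linear_combination ((X : G → ℂ) u * (X : G → ℂ) u' - (deg X : ℂ) * ((X : G → ℂ) u + (X : G → ℂ) u' + ε)) * hε
  · simp only [Finset.mem_insert, not_or] at hχ
    rw [val_zero_of_D_zero h (F.D_other hχ.1 hχ.2.1 hχ.2.2) h1]
    simp

/-- The value at an inverting involution. -/
theorem value_at_inverter (h : SC A e) (χ : IrrCharacter G) {d : ℤ} (hd : ∀ θ, D A χ θ = d) {j : G}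
    (hj : orderOf j = 2) (hinv : ∀ a ∈ A, j * a * j⁻¹ = a⁻¹) :
    ∃ (y : ℤ) (b : ℕ), (χ : G → ℂ) j = y ∧ y.natAbs ≤ b ∧
      (deg χ : ℤ) = (Nat.card A : ℤ) * b - ((Nat.card A : ℤ) - 1) * d := by
  classical
  obtain ⟨y, hy, hyb⟩ := h.abs_inverter χ hj hinv
  refine ⟨y, _, hy, hyb, ?_⟩
  rw [h.deg_eq χ, Finset.sum_congr rfl fun θ _ => hd θ, Finset.sum_const, Finset.card_univ, h.card_NT,
    nsmul_eq_mul]
  have h2 : ((e * (classesOf A).card : ℕ) : ℤ) + 1 = (Nat.card A : ℤ) := by exact_mod_cast h.card_classesOf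
  linear_combination (-d) * h2

/-- One class of involutions. -/
theorem Fam.one_class (F : Fam A X ε L) (h : SC A 2) [IsSimpleGroup G] (hG : ¬ IsMulCommutative G)
    {u : G} (hu : orderOf u = 2) (hinv : ∀ a ∈ A, u * a * u⁻¹ = a⁻¹) {u' : G} (hu' : orderOf u' = 2) :
    IsConj u u' := by
  classical
  have hx2 := two_le_deg hG F.neX
  obtain ⟨y, b, hy, hyb, hb⟩ := value_at_inverter h X F.dX hu hinv
  have hn := h.five
  have hne1 : (deg X : ℂ) - (X : G → ℂ) u ≠ 0 := by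
    rw [hy]
    intro hh
    have h0 : (deg X : ℤ) - y = 0 := by exact_mod_cast hh
    have hcast : ((Nat.card A : ℤ) : ℤ) ≥ 5 := by exact_mod_cast hn
    rcases F.sgn with r | r <;> rw [r] at hb <;> nlinarith [show y ≤ (b : ℤ) by omega]
  have hne2 : (deg X : ℂ) - (X : G → ℂ) u' ≠ 0 := by
    intro hh
    have hk : u' ∈ charKernel (X : G → ℂ) (isCharacter_of_irr X.2) := by
      rw [mem_charKernel, deg_spec]
      exact (sub_eq_zero.mp hh).symm
    rcases IsSimpleGroup.eq_bot_or_eq_top_of_normal (charKernel (X : G → ℂ) (isCharacter_of_irr X.2))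
      inferInstance with e1 | e1
    · rw [e1, Subgroup.mem_bot] at hk
      rw [hk, orderOf_one] at hu'
      omega
    · exact F.neX (Subtype.ext (irr_eq_one_of_kernel_top X.2 fun g =>
        (mem_charKernel _ g).mp (e1 ▸ Subgroup.mem_top g)))
  obtain ⟨a, ha, ha1⟩ := h.exists_ne_one
  have hf := triple_formula u u' a
  rw [F.triple_sum h hG hu hu' (a := ⟨a, ha⟩) (fun e => ha1 (congrArg Subtype.val e))] at hf
  have hxe : (deg X : ℂ) + ε ≠ 0 := by
    rcases F.sgn with r | r <;> subst r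
    · exact_mod_cast (show (deg X : ℤ) + 1 ≠ 0 by omega)
    · exact_mod_cast (show (deg X : ℤ) + -1 ≠ 0 by omega)
  have hpos : 0 < Nat.card {g : G // IsConj a (g * u * g⁻¹ * u')} := by
    rw [Nat.pos_iff_ne_zero]
    intro h0
    rw [h0, Nat.cast_zero, zero_mul] at hf
    have := hf.symm
    simp only [mul_eq_zero, div_eq_zero_iff, Nat.cast_eq_zero] at this
    rcases this with r | (r | r) | r | r
    · exact Nat.card_pos.ne' r
    · exact hne1 r
    · exact hne2 r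
    · omega
    · exact hxe r
  obtain ⟨⟨g, hg⟩⟩ := (Nat.card_pos_iff.mp hpos).1
  obtain ⟨k, hk⟩ := isConj_iff.mp hg
  have hodd : Odd (orderOf (g * u * g⁻¹ * u')) := by
    rw [← hk, CfsgLib.Involutions.orderOf_conj]
    exact h.coprime_two ha
  obtain ⟨d, -, hd⟩ := CfsgLib.Involutions.exists_conj_eq_of_odd
    (CfsgLib.Involutions.mul_self_eq_one_of_orderOf (by rw [CfsgLib.Involutions.orderOf_conj, hu]))
    (CfsgLib.Involutions.mul_self_eq_one_of_orderOf hu') hodd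
  exact (isConj_iff.mpr ⟨g, rfl⟩).trans (isConj_iff.mpr ⟨d, hd⟩)

/-- The order equation. -/
theorem Fam.order_eq (F : Fam A X ε L) (h : SC A 2) [IsSimpleGroup G] (hG : ¬ IsMulCommutative G)
    {u : G} (hu : orderOf u = 2) (hone : ∀ i : G, orderOf i = 2 → IsConj u i) {y : ℤ}
    (hy : (X : G → ℂ) u = y) :
    (Nat.card G : ℤ) * ((deg X : ℤ) - y) ^ 2 =
      (Nat.card A : ℤ) * (Nat.card (Subgroup.centralizer ({u} : Set G)) : ℤ) ^ 2 *
        ((deg X : ℤ) * ((deg X : ℤ) + ε)) := by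
  classical
  have hx2 := two_le_deg hG F.neX
  obtain ⟨a, ha, ha1⟩ := h.exists_ne_one
  have hf := triple_formula u u a
  rw [F.triple_sum h hG hu hu (a := ⟨a, ha⟩) (fun e => ha1 (congrArg Subtype.val e)),
    triple_count h hu hone ha ha1, h.cent a ha ha1, hy] at hf
  have hx : (deg X : ℂ) ≠ 0 := Nat.cast_ne_zero.mpr (by omega)
  have hxe : (deg X : ℂ) + ε ≠ 0 := by
    rcases F.sgn with r | r <;> subst r
    · exact_mod_cast (show (deg X : ℤ) + 1 ≠ 0 by omega)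
    · exact_mod_cast (show (deg X : ℤ) + -1 ≠ 0 by omega)
  field_simp at hf
  push_cast at hf
  have key : (((Nat.card G : ℤ) * ((deg X : ℤ) - y) ^ 2 : ℤ) : ℂ) =
      (((Nat.card A : ℤ) * (Nat.card (Subgroup.centralizer ({u} : Set G)) : ℤ) ^ 2 *
        ((deg X : ℤ) * ((deg X : ℤ) + ε)) : ℤ) : ℂ) := by
    push_cast
    linear_combination -hf
  exact_mod_cast key

/-- On a further subgroup the coefficient of `X` is constant and so are those of the family. -/
theorem Fam.on_other (F : Fam A X ε L) (h : SC A 2) (hB : SC B 4) (h9 : 9 ≤ Nat.card B)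
    (hnc : ∀ g : G, A.map (MulAut.conj g).toMonoidHom ≠ B) :
    ∃ c : ℤ, (∀ φ, D B X φ = c) ∧ (∀ Q ∈ L, ∀ φ, D B Q φ = c + ε) ∧ (c = -ε ∨ (c = 0 ∧ L.card ≤ 4)) := by
  classical
  have ha := hB.arr (by omega)
  have hQ : ∀ φ, ∀ Q ∈ L, D B Q φ = D B X φ + ε := by
    intro φ Q hQL
    obtain ⟨θ, hθ⟩ := F.hit Q hQL
    obtain ⟨Q', hQL', hv, hout⟩ := F.col θ
    have hQQ : Q = Q' := by
      by_contra hne
      exact hθ (hout Q (fun e => F.notO (e ▸ hQL)) (fun e => F.notX (e ▸ hQL)) hne)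
    subst hQQ
    have hc := cross h hB hnc θ.1 φ.1
    change ∑ χ : IrrCharacter G, D A χ θ * D B χ φ = 0 at hc
    rw [← Finset.sum_subset (Finset.subset_univ ({oneG G, X, Q} : Finset _)) fun χ _ hχ => by
      simp only [Finset.mem_insert, Finset.mem_singleton, not_or] at hχ
      rw [hout χ hχ.1 hχ.2.1 hχ.2.2, zero_mul]] at hc
    rw [Finset.sum_insert (by simp [F.neX.symm, show oneG G ≠ Q from fun e => F.notO (e ▸ hQL)]),
      Finset.sum_pair (fun e => F.notX (by rw [e]; exact hQL)), hv, F.dX θ,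
      show D A (oneG G) θ = 1 from coef_principal θ.2, show D B (oneG G) φ = 1 from coef_principal φ.2] at hc
    rcases F.sgn with r | r <;> subst r <;> linarith
  have hconst : ∀ φ ψ, D B X φ = D B X ψ := by
    intro φ ψ
    by_contra hne
    have hle : ∑ χ ∈ insert X L, (D B χ φ - D B χ ψ) ^ 2 ≤ ∑ χ, (D B χ φ - D B χ ψ) ^ 2 :=
      Finset.sum_le_sum_of_subset_of_nonneg (Finset.subset_univ _) fun χ _ _ => sq_nonneg _
    rw [ha.sum_sq_diff, Finset.sum_congr rfl fun χ hχ => show (D B χ φ - D B χ ψ) ^ 2 =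
        (D B X φ - D B X ψ) ^ 2 by
      rcases Finset.mem_insert.mp hχ with e | e
      · rw [e]
      · rw [hQ φ χ e, hQ ψ χ e]; ring, Finset.sum_const, Finset.card_insert_of_notMem F.notX,
      nsmul_eq_mul] at hle
    have h1 : (1 : ℤ) ≤ (D B X φ - D B X ψ) ^ 2 := by
      rcases lt_or_gt_of_ne (sub_ne_zero.mpr hne) with r | r <;> nlinarith
    have h2 := h.two_le_k (by have := h.five; omega)
    rw [← F.cardL] at h2
    have h3 : (3 : ℤ) ≤ ((L.card + 1 : ℕ) : ℤ) := by exact_mod_cast (by omega : 3 ≤ L.card + 1)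
    split at hle <;> nlinarith [mul_le_mul h3 h1 zero_le_one (by positivity)]
  haveI : Nonempty (NT B) := Fintype.card_pos_iff.mp (by rw [ha.cardT]; have := ha.two; omega)
  obtain ⟨φ⟩ := ‹Nonempty (NT B)›
  refine ⟨D B X φ, fun ψ => hconst ψ φ, fun Q hQL ψ => by rw [hQ ψ Q hQL, hconst ψ φ], ?_⟩
  have hle : ∑ χ ∈ insert (oneG G) (insert X L), D B χ φ * D B χ φ ≤ ∑ χ, D B χ φ * D B χ φ :=
    Finset.sum_le_sum_of_subset_of_nonneg (Finset.subset_univ _) fun χ _ _ => mul_self_nonneg _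
  rw [ha.gram, if_pos (ha.refl φ), Finset.sum_insert (by simp [F.neX.symm, F.notO]),
    Finset.sum_insert F.notX, Finset.sum_congr rfl fun Q hQL => by rw [hQ φ Q hQL], Finset.sum_const,
    show D B (oneG G) φ = 1 from coef_principal φ.2, nsmul_eq_mul] at hle
  push_cast at hle
  have h2 := h.two_le_k (by have := h.five; omega)
  rw [← F.cardL] at h2
  have h2' : (2 : ℤ) ≤ L.card := by exact_mod_cast h2
  set c := D B X φ
  have hb : -2 ≤ c ∧ c ≤ 2 := ⟨by nlinarith [mul_self_nonneg (c + ε)], by nlinarith [mul_self_nonneg (c + ε)]⟩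
  obtain ⟨hb1, hb2⟩ := hb
  interval_cases c <;> rcases F.sgn with r | r <;> subst r <;> norm_num at hle ⊢ <;> omega

end CfsgLib.SuzSC
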